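import Cfsg.Agent.H34.Push.Defs
import Cfsg.Agent.H74.PMinimalBasic
import Mathlib

/-!
First consequences of the standing hypotheses: `C*(G,T)` is proper, `T ∩ C_G(V) = O_p(G)`, and the
offender bounds on `V`.
-/

set_option autoImplicit false
set_option linter.style.haveILetI false
set_option linter.unusedSectionVars false

open scoped commutatorElement

namespace Cfsg.Agent.H34.Push

open Subgroup
open Cfsg.Agent.H34.Star

universe u

variable {G : Type u} [Group G] [Finite G] {p : ℕ} [Fact p.Prime]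

theorem vee_normal : (vee p G).Normal := omega_core_normal

theorem cee_normal : (cee p G).Normal := by
  haveI := vee_normal (G := G) (p := p)
  exact normal_centralizer

theorem pCore_normal' : (Cfsg.pCore p G).Normal := Cfsg.Agent.H72.pCore_normal p

theorem vee_le_core : vee p G ≤ Cfsg.pCore p G := (omega_le _).trans inf_le_left

theorem core_le_cee : Cfsg.pCore p G ≤ cee p G := le_centralizer_iff.1 ((omega_le _).trans inf_le_right)

theorem vee_elementary : Cfsg.IsElementaryAbelian p (vee p G) := omega_elementary _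

theorem vee_le_cee : vee p G ≤ cee p G := vee_le_core.trans core_le_cee

variable {T : Sylow p G} {M : Subgroup G}

/-- A proper subgroup containing `T` lies in `M`. -/
theorem Ctx.le_max (hc : Ctx T M) {X : Subgroup G} (hX : (T : Subgroup G) ≤ X) (hne : X ≠ ⊤) : X ≤ M :=
  Cfsg.Agent.H74.pmin_le hc.pmin hc.hM hc.hTM hX hne

/-- `T` is not trivial, so `p` divides the order. -/
theorem Ctx.dvd_card (hc : Ctx T M) : p ∣ Nat.card G := by
  by_contra hnd
  refine (hc.pmin T).1 ?_
  have h1 : (T : Subgroup G) = ⊥ := by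
    rw [← card_eq_one, T.card_eq_multiplicity, Nat.factorization_eq_zero_of_not_dvd hnd, pow_zero]
  rw [h1]
  infer_instance

theorem Ctx.T_le_cent_omega :
    (T : Subgroup G) ≤ centralizer (Cfsg.omegaOneCenter p (T : Subgroup G) : Set G) :=
  le_centralizer_iff.1 ((omega_le _).trans inf_le_right)

theorem Ctx.cent_omega_le (hc : Ctx T M) :
    centralizer (Cfsg.omegaOneCenter p (T : Subgroup G) : Set G) ≤ M := by
  refine hc.le_max Ctx.T_le_cent_omega fun e => hc.hz ⟨fun z hz g => ?_⟩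
  have hg : g ∈ centralizer (Cfsg.omegaOneCenter p (T : Subgroup G) : Set G) := e ▸ mem_top g
  rwa [← mem_centralizer_iff.1 hg z hz, mul_inv_cancel_right]

/-- Whatever normalises `B(T)` normalises its characteristic subgroups. -/
theorem normalizer_le_of_characteristic {B C : Subgroup G} (hCB : C ≤ B)
    (hC : (C.subgroupOf B).Characteristic) : normalizer (B : Set G) ≤ normalizer (C : Set G) := by
  intro g hg
  refine Cfsg.Agent.H74.mem_normalizer_of_conj_mem fun c hcC => ?_
  have hB : ∀ x : ↥B, g * (x : G) * g⁻¹ ∈ B := fun x => (mem_normalizer_iff.1 hg x).1 x.2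
  have hB' : ∀ x : ↥B, g⁻¹ * (x : G) * g ∈ B := fun x => (mem_normalizer_iff''.1 hg x).1 x.2
  let α : ↥B ≃* ↥B :=
    { toFun := fun x => ⟨g * x * g⁻¹, hB x⟩
      invFun := fun x => ⟨g⁻¹ * x * g, hB' x⟩
      left_inv := fun x => Subtype.ext (by simp [mul_assoc])
      right_inv := fun x => Subtype.ext (by simp [mul_assoc])
      map_mul' := fun x y => Subtype.ext (by simp [mul_assoc]) }
  have h1 : α ⟨c, hCB hcC⟩ ∈ (C.subgroupOf B).map α.toMonoidHom := mem_map_of_mem _ hcC
  rw [characteristic_iff_map_eq.1 hC α] at h1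
  exact h1

theorem Ctx.norm_char_le (hc : Ctx T M) {C : Subgroup G}
    (hCB : C ≤ Cfsg.baumannSubgroupOf p (T : Subgroup G)) (hne : C ≠ ⊥)
    (hC : (C.subgroupOf (Cfsg.baumannSubgroupOf p (T : Subgroup G))).Characteristic) :
    normalizer (C : Set G) ≤ M :=
  hc.le_max ((H51.le_normalizer_baumann _).trans (normalizer_le_of_characteristic hCB hC)) fun e =>
    hc.hchar C hCB hne hC (normalizer_eq_top_iff.1 e)

/-- `C*(G,T) ≤ M`. -/
theorem Ctx.cStar_le (hc : Ctx T M) : Cfsg.cStarOf p (T : Subgroup G) ≤ M :=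
  sup_le hc.cent_omega_le (iSup_le fun C => hc.norm_char_le C.2.1 C.2.2.1 C.2.2.2)

theorem Ctx.cStar_ne_top (hc : Ctx T M) : Cfsg.cStarOf p (T : Subgroup G) ≠ ⊤ := fun e =>
  hc.hM.1 (top_le_iff.1 (e ▸ hc.cStar_le))

theorem Ctx.thompson_ne_bot (hc : Ctx T M) : Cfsg.thompsonSubgroupOf p (T : Subgroup G) ≠ ⊥ := by
  intro e
  obtain ⟨A, hAT, hA⟩ := exists_max_le_sylow T
  refine max_ne_bot hc.dvd_card hA (le_bot_iff.1 (e ▸ ?_))
  rw [thompsonSubgroupOf_sylow]
  exact le_sSup ⟨hAT, hA⟩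

/-- `J(T)` is characteristic in `B(T)`. -/
theorem thompson_char_baumann :
    ((Cfsg.thompsonSubgroupOf p (T : Subgroup G)).subgroupOf
      (Cfsg.baumannSubgroupOf p (T : Subgroup G))).Characteristic := by
  rw [← thompsonSubgroupOf_eq_of_le (H51.thompsonSubgroupOf_le_baumann _) inf_le_left,
    Cfsg.thompsonSubgroupOf, ← comap_subtype, comap_map_eq_self_of_injective (subtype_injective _)]
  exact thompsonSubgroup_characteristic

/-- The normalisers of `B(T)` and of `J(T)` lie in `C*(G,T)`. -/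
theorem Ctx.normalizer_thompson_le (hc : Ctx T M) :
    normalizer (Cfsg.thompsonSubgroupOf p (T : Subgroup G) : Set G) ≤ Cfsg.cStarOf p (T : Subgroup G) :=
  le_sup_of_le_right (le_iSup_of_le
    ⟨_, H51.thompsonSubgroupOf_le_baumann _, hc.thompson_ne_bot, thompson_char_baumann⟩ le_rfl)

theorem Ctx.normalizer_baumann_le (hc : Ctx T M) :
    normalizer (Cfsg.baumannSubgroupOf p (T : Subgroup G) : Set G) ≤ Cfsg.cStarOf p (T : Subgroup G) :=
  (normalizer_le_of_characteristic (H51.thompsonSubgroupOf_le_baumann _) thompson_char_baumann).trans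
    hc.normalizer_thompson_le

theorem Ctx.starstar_ne (hc : Ctx T M) : Cfsg.cStarStarOf p (T : Subgroup G) ≠ ⊤ := fun e =>
  hc.cStar_ne_top (top_le_iff.1 (e ▸ sup_le le_sup_left hc.normalizer_thompson_le))

/-- `C_G(V) ≤ M`. -/
theorem Ctx.cee_le (hc : Ctx T M) : cee p G ≤ M :=
  (cent_le_starstar (T := T) hc.charp).trans (starstar_le hc.pmin hc.hM hc.hTM hc.starstar_ne)

/-- `T ∩ C_G(V) = O_p(G)`. -/
theorem Ctx.inf_cee (hc : Ctx T M) : (T : Subgroup G) ⊓ cee p G = Cfsg.pCore p G := by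
  haveI := cee_normal (G := G) (p := p)
  exact le_antisymm (inf_le_pCore hc.pmin hc.hM hc.hTM hc.cee_le)
    (le_inf (Cfsg.Agent.H72.pCore_le_sylow T) core_le_cee)

/-- No elementary abelian image offends more than exactly. -/
theorem Ctx.bound (hc : Ctx T M) {X : Subgroup G} (hcomm : ∀ a ∈ X, ∀ b ∈ X, ⁅a, b⁆ ∈ cee p G)
    (hexp : ∀ a ∈ X, a ^ p ∈ cee p G) :
    (cee p G).relIndex X * Nat.card ↥(vee p G ⊓ centralizer (X : Set G)) ≤ Nat.card (vee p G) := by
  haveI := vee_normal (G := G) (p := p)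
  let R := semiRep (vee p G)
  have h := ffp_of_rep hc.pmin hc.hM hc.hTM hc.charp hc.starstar_ne rfl R
  have h1 := h.bound (B := X.map R.π) (map_le_range _ _) (by
    rintro _ ⟨a, ha, rfl⟩ _ ⟨b, hb, rfl⟩
    rw [← commutatorElement_eq_one_iff_mul_comm, ← map_commutatorElement, ← MonoidHom.mem_ker, R.ker]
    exact hcomm a ha b hb) (by
    rintro _ ⟨a, ha, rfl⟩
    rw [← map_pow, ← MonoidHom.mem_ker, R.ker]
    exact hexp a ha)
  have hV : Nat.card ↥R.θ.range = Nat.card ↥(vee p G) :=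
    Nat.card_congr (MonoidHom.ofInjective R.inj).symm.toEquiv
  have hcen : R.θ.range ⊓ centralizer (X.map R.π : Set (Equiv.Perm ↥(vee p G))) =
      ((vee p G ⊓ centralizer (X : Set G)).subgroupOf (vee p G)).map R.θ := by
    refine le_antisymm ?_ ?_
    · rintro _ ⟨⟨v, rfl⟩, hv⟩
      exact ⟨v, ⟨v.2, (R.cent_iff X v).1 hv⟩, rfl⟩
    · rintro _ ⟨v, hv, rfl⟩
      exact ⟨⟨v, rfl⟩, (R.cent_iff X v).2 hv.2⟩
  rw [hV, hcen, card_map_of_injective R.inj, Nat.card_congr (subgroupOfEquivOfLe inf_le_left).toEquiv,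
    ← relIndex_ker, R.ker] at h1
  exact h1

/-- The members of `𝒜(G)` offend on `V`. -/
theorem Ctx.offender (hc : Ctx T M) {A : Subgroup G} (hA : A ∈ Cfsg.maxElementaryAbelianSubgroups p G) :
    Nat.card (vee p G) = (cee p G).relIndex A * Nat.card ↥(vee p G ⊓ centralizer (A : Set G)) := by
  haveI := vee_normal (G := G) (p := p)
  refine le_antisymm ?_ ?_
  · let R := semiRep (vee p G)
    obtain ⟨-, -, h1⟩ := max_image_large rfl R hA
    have hV : Nat.card ↥R.θ.range = Nat.card ↥(vee p G) :=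
      Nat.card_congr (MonoidHom.ofInjective R.inj).symm.toEquiv
    have hcen : R.θ.range ⊓ centralizer (A.map R.π : Set (Equiv.Perm ↥(vee p G))) =
        ((vee p G ⊓ centralizer (A : Set G)).subgroupOf (vee p G)).map R.θ := by
      refine le_antisymm ?_ ?_
      · rintro _ ⟨⟨v, rfl⟩, hv⟩
        exact ⟨v, ⟨v.2, (R.cent_iff A v).1 hv⟩, rfl⟩
      · rintro _ ⟨v, hv, rfl⟩
        exact ⟨⟨v, rfl⟩, (R.cent_iff A v).2 hv.2⟩
    rw [hV, hcen, card_map_of_injective R.inj, Nat.card_congr (subgroupOfEquivOfLe inf_le_left).toEquiv,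
      ← relIndex_ker, R.ker] at h1
    exact h1
  · haveI := hA.1.1
    refine hc.bound (fun a ha b hb => ?_) (fun a ha => by rw [hA.1.2 a ha]; exact one_mem _)
    have e : a * b = b * a := setLike_mul_comm ha hb
    rw [commutatorElement_eq_one_iff_mul_comm.2 e]
    exact one_mem _

end Cfsg.Agent.H34.Push
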