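import Cfsg.Agent.H34.Push.Defs
import Cfsg.Agent.H34.Push.Basic
import Mathlib

/-!
From the family of blocks to the block structure.
-/

set_option autoImplicit false
set_option linter.style.haveILetI false
set_option linter.unusedSectionVars false

open scoped commutatorElement

namespace Cfsg.Agent.H34.Push

open Subgroup

variable {G : Type*} [Group G] [Finite G] {p : ℕ} [Fact p.Prime] {T : Sylow p G}

/-- The blocks of the family are permuted by all of `G`. -/
theorem Family.conj_mem {r : ℕ} {B : Fin r → Subgroup G} (h : Family T B) (g : G) (i : Fin r) :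
    ∃ j, (B i).map (MulAut.conj g).toMonoidHom = B j := by
  haveI : (ell p (T : Subgroup G)).Normal := normalClosure_normal
  have hg : g ∈ ell p (T : Subgroup G) ⊔ (T : Subgroup G) :=
    h.gen.ge.trans (sup_le_sup_right (iSup_le h.le_L) _) (mem_top g)
  obtain ⟨l, hl, t, ht, rfl⟩ := mem_sup_of_normal_left.1 hg
  obtain ⟨j, hj⟩ := h.perm t ht i
  refine ⟨j, ?_⟩
  rw [show (MulAut.conj (l * t)).toMonoidHom =
      (MulAut.conj l).toMonoidHom.comp (MulAut.conj t).toMonoidHom by ext x; simp [mul_assoc],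
    ← Subgroup.map_map, hj]
  exact mem_normalizer_iff_map_conj_eq.1 (h.norm j hl)

/-- The block structure, given that foreign blocks are absorbed. -/
theorem structure_of_family {r : ℕ} {B : Fin r → Subgroup G} (h : Family T B) (hs : StarClauses T B)
    (hf : ∀ F : Subgroup G, Cfsg.IsBaumannBlock p (T : Subgroup G) F →
      ¬ F ≤ Cfsg.cStarOf p (T : Subgroup G) → ∃ i, F ≤ B i) :
    ∃ 𝓑 : Set (Subgroup G), Cfsg.HasBaumannBlockStructure p (T : Subgroup G) 𝓑 ∧
      (∀ E ∈ 𝓑, ∀ m : ℕ, Nonempty (↥E ⧸ Cfsg.pCore p ↥E ≃* ↥(alternatingGroup (Fin (2 * m + 1)))) →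
        ∃ n : ℕ, 2 * m + 1 = 2 ^ n + 1) ∧
      Cfsg.cStarOf p (T : Subgroup G) =
        (Cfsg.cStarOf p (T : Subgroup G) ⊓ sSup 𝓑) ⊔ (T : Subgroup G) := by
  refine ⟨Set.range B, ⟨?_, ?_, ?_, ?_, ?_, ?_, ?_⟩, ?_, ?_⟩
  · rintro _ ⟨i, rfl⟩
    exact h.block i
  · rintro _ ⟨i, rfl⟩ g
    obtain ⟨j, hj⟩ := h.conj_mem g i
    exact ⟨j, hj.symm⟩
  · rintro _ ⟨i, rfl⟩ _ ⟨j, rfl⟩ hne
    exact h.comm i j fun e => hne (congrArg B e)
  · rw [sSup_range, eq_top_iff, ← h.gen, sup_comm (⨆ i, B i)]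
    exact sup_le_sup_right (le_sup_of_le_left Ctx.T_le_cent_omega) _
  · intro F hF hne
    obtain ⟨i, hi⟩ := hf F hF hne
    exact ⟨B i, ⟨i, rfl⟩, hi⟩
  · rw [sSup_range, hs.inter, iSup_range]
  · rintro _ ⟨i, rfl⟩
    exact hs.shape i
  · rintro _ ⟨i, rfl⟩ m hm
    exact hs.alt i m hm
  · rw [sSup_range]
    exact hs.top

end Cfsg.Agent.H34.Push
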