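import Cfsg.Agent.H34.Push.Basic
import Cfsg.Agent.H72.Push.Common
import Cfsg.Agent.H74.PGroupAction
import Cfsg.Agent.H32.Basic
import Mathlib

/-!
The normal closure `W` of `Ω₁(Z(J(T)))`, the subgroup `P = C_{O_p(G)}(W)`, and `L = ⟨B(T)^G⟩`.
-/

set_option autoImplicit false
set_option linter.style.haveILetI false
set_option linter.unusedSectionVars false

open scoped commutatorElement

namespace Cfsg.Agent.H34.Push

open Subgroup
open Cfsg.Agent.H34.Star

universe u

variable {G : Type u} [Group G] [Finite G] {p : ℕ} [Fact p.Prime] {T : Sylow p G} {M : Subgroup G}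

/-- `Ω₁(Z(J(T)))`. -/
abbrev zedJ (T : Sylow p G) : Subgroup G :=
  Cfsg.omegaOne p (Cfsg.centerThompsonOf p (T : Subgroup G))

theorem zedJ_elementary : Cfsg.IsElementaryAbelian p (zedJ T) := by
  haveI : IsMulCommutative ↥(Cfsg.centerThompsonOf p (T : Subgroup G)) :=
    isMulCommutative_inf_centralizer (Cfsg.thompsonSubgroupOf p (T : Subgroup G))
  exact omegaOne_isElementaryAbelian

theorem mem_le_thompsonOf {A : Subgroup G} (hAT : A ≤ (T : Subgroup G))
    (hA : A ∈ Cfsg.maxElementaryAbelianSubgroups p G) : A ≤ Cfsg.thompsonSubgroupOf p (T : Subgroup G) := by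
  rw [thompsonSubgroupOf_sylow]
  exact le_sSup ⟨hAT, hA⟩

theorem zedJ_le_of_mem {A : Subgroup G} (hAT : A ≤ (T : Subgroup G))
    (hA : A ∈ Cfsg.maxElementaryAbelianSubgroups p G) : zedJ T ≤ A :=
  le_of_mem_max hA zedJ_elementary ((mem_le_thompsonOf hAT hA).trans
    (le_centralizer_iff.1 ((omegaOne_le _).trans inf_le_right)))

theorem B_le_cent_zedJ :
    Cfsg.baumannSubgroupOf p (T : Subgroup G) ≤ centralizer (zedJ T : Set G) := inf_le_right

/-- `(A ∩ C_G(V)) V` is again elementary abelian of largest order. -/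
theorem Ctx.swap_mem (hc : Ctx T M) {A : Subgroup G} (hA : A ∈ Cfsg.maxElementaryAbelianSubgroups p G) :
    (A ⊓ cee p G) ⊔ vee p G ∈ Cfsg.maxElementaryAbelianSubgroups p G := by
  haveI := vee_normal (G := G) (p := p)
  refine mem_max_of_card_le hA
    (isElementaryAbelian_sup (isElementaryAbelian_mono hA.1 inf_le_left) vee_elementary inf_le_right) ?_
  have h1 := H32.card_sup_mul_card_inf (A ⊓ cee p G) (vee p G)
  have h2 : Nat.card ↥((A ⊓ cee p G) ⊓ vee p G) ≤ Nat.card ↥(vee p G ⊓ centralizer (A : Set G)) := by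
    haveI := hA.1.1
    refine card_le_of_le fun x hx => ⟨hx.2, mem_centralizer_iff.2 fun a ha => setLike_mul_comm ha hx.1.1⟩
  have h3 := hc.offender hA
  have h4 : Nat.card A = Nat.card ↥(A ⊓ cee p G) * (cee p G).relIndex A := by
    rw [← inf_relIndex_left, H32.card_mul_relIndex (inf_le_left : A ⊓ cee p G ≤ A)]
  refine Nat.le_of_mul_le_mul_right (c := Nat.card ↥((A ⊓ cee p G) ⊓ vee p G)) ?_ Nat.card_pos
  rw [h1]
  calc Nat.card A * Nat.card ↥((A ⊓ cee p G) ⊓ vee p G)
      ≤ Nat.card A * Nat.card ↥(vee p G ⊓ centralizer (A : Set G)) := Nat.mul_le_mul_left _ h2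
    _ = _ := by rw [h4, h3, mul_assoc]

theorem Ctx.swap_le_core (hc : Ctx T M) {A : Subgroup G} (hAT : A ≤ (T : Subgroup G)) :
    (A ⊓ cee p G) ⊔ vee p G ≤ Cfsg.pCore p G :=
  sup_le ((inf_le_inf_right _ hAT).trans hc.inf_cee.le) vee_le_core

theorem Ctx.zedJ_le_core (hc : Ctx T M) : zedJ T ≤ Cfsg.pCore p G := by
  obtain ⟨A, hAT, hA⟩ := exists_max_le_sylow T
  exact (zedJ_le_of_mem ((hc.swap_le_core hAT).trans (Cfsg.Agent.H72.pCore_le_sylow T))
    (hc.swap_mem hA)).trans (hc.swap_le_core hAT)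

/-- `W` lies in every largest elementary abelian subgroup inside `O_p(G)`. -/
theorem Ctx.wee_le_of_mem (hc : Ctx T M) {A : Subgroup G} (hAQ : A ≤ Cfsg.pCore p G)
    (hA : A ∈ Cfsg.maxElementaryAbelianSubgroups p G) : wee p (T : Subgroup G) ≤ A := by
  refine sup_le (le_of_mem_max hA vee_elementary (hAQ.trans core_le_cee)) ?_
  refine (closure_le _).2 fun x hx => ?_
  obtain ⟨z, hz, hzx⟩ := Group.mem_conjugatesOfSet_iff.1 hx
  obtain ⟨g, rfl⟩ := isConj_iff.1 hzx
  haveI := pCore_normal' (G := G) (p := p)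
  have hle : A.map (MulAut.conj g⁻¹).toMonoidHom ≤ (T : Subgroup G) := by
    refine le_trans ?_ (Cfsg.Agent.H72.pCore_le_sylow T)
    rintro _ ⟨a, ha, rfl⟩
    exact Normal.conj_mem inferInstance _ (hAQ ha) _
  have h1 := zedJ_le_of_mem hle (map_mem_max (MulAut.conj g⁻¹) hA) hz
  rw [mem_map_equiv] at h1
  simpa [MulAut.conj_symm_apply] using h1

theorem wee_normal : (wee p (T : Subgroup G)).Normal := by
  haveI := vee_normal (G := G) (p := p)
  exact sup_normal _ _

theorem Ctx.wee_facts (hc : Ctx T M) :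
    Cfsg.IsElementaryAbelian p (wee p (T : Subgroup G)) ∧ wee p (T : Subgroup G) ≤ Cfsg.pCore p G := by
  obtain ⟨A, hAT, hA⟩ := exists_max_le_sylow T
  have h1 := hc.wee_le_of_mem (hc.swap_le_core hAT) (hc.swap_mem hA)
  exact ⟨isElementaryAbelian_mono (hc.swap_mem hA).1 h1, h1.trans (hc.swap_le_core hAT)⟩

/-- `[W, J(G)] ≤ V`. -/
theorem Ctx.comm_wee_thompson (hc : Ctx T M) :
    ⁅wee p (T : Subgroup G), Cfsg.thompsonSubgroup p G⁆ ≤ vee p G := by
  haveI := vee_normal (G := G) (p := p)
  haveI := wee_normal (T := T)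
  set π := QuotientGroup.mk' (vee p G) with hπ
  have hD : Cfsg.thompsonSubgroup p G ≤
      (centralizer (((wee p (T : Subgroup G)).map π : Subgroup (G ⧸ vee p G)) : Set (G ⧸ vee p G))).comap π := by
    refine sSup_le fun A hA => ?_
    obtain ⟨S, hAS⟩ := (IsPGroup_of_isElementaryAbelian hA.1).exists_le_sylow
    obtain ⟨g, hg⟩ := MulAction.exists_smul_eq G S T
    have hAT : A.map (MulAut.conj g).toMonoidHom ≤ (T : Subgroup G) := by
      rw [← hg]; exact map_mono hAS
    intro a ha
    rw [mem_comap, mem_centralizer_iff]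
    rintro _ ⟨w, hw, rfl⟩
    have hw' : g * w * g⁻¹ ∈ wee p (T : Subgroup G) := Normal.conj_mem inferInstance w hw g
    have hA' : A.map (MulAut.conj g).toMonoidHom ∈ Cfsg.maxElementaryAbelianSubgroups p G := map_mem_max _ hA
    have hmem := hc.wee_le_of_mem (hc.swap_le_core hAT) (hc.swap_mem hA') hw'
    rw [← SetLike.mem_coe, coe_mul_of_left_le_normalizer_right _ _ le_normalizer_of_normal] at hmem
    obtain ⟨x, hx, v, hv, hxv⟩ := hmem
    have hga : g * a * g⁻¹ ∈ A.map (MulAut.conj g).toMonoidHom := ⟨a, ha, rfl⟩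
    haveI := hA'.1.1
    have hcx : x * (g * a * g⁻¹) = g * a * g⁻¹ * x := setLike_mul_comm hx.1 hga
    have hkey : (w * a)⁻¹ * (a * w) ∈ vee p G := by
      have h1 : (x * v * (g * a * g⁻¹))⁻¹ * ((g * a * g⁻¹) * (x * v)) =
          (g * a * g⁻¹)⁻¹ * v⁻¹ * (g * a * g⁻¹) * v := by
        rw [← mul_assoc (g * a * g⁻¹) x v, ← hcx]; group
      have h2 : (g * w * g⁻¹ * (g * a * g⁻¹))⁻¹ * ((g * a * g⁻¹) * (g * w * g⁻¹)) ∈ vee p G := by
        rw [← show x * v = g * w * g⁻¹ from hxv, h1]
        exact mul_mem (by simpa [mul_assoc] using Normal.conj_mem inferInstance _ (inv_mem hv) (g * a * g⁻¹)⁻¹) hv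
      have h3 := Normal.conj_mem inferInstance _ h2 g⁻¹
      convert h3 using 1
      group
    exact (QuotientGroup.eq).2 hkey
  refine commutator_le.2 fun w hw j hj => ?_
  have h1 := mem_centralizer_iff.1 (hD hj) _ (mem_map_of_mem π hw)
  rw [← QuotientGroup.ker_mk' (vee p G), MonoidHom.mem_ker, map_commutatorElement,
    commutatorElement_eq_one_iff_mul_comm]
  exact h1

/-- `W = V Ω₁(Z(J(T)))`. -/
theorem Ctx.wee_eq (hc : Ctx T M) : wee p (T : Subgroup G) = vee p G ⊔ zedJ T := by
  haveI := vee_normal (G := G) (p := p)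
  haveI : (Cfsg.thompsonSubgroup p G).Normal :=
    haveI := thompsonSubgroup_characteristic (p := p) (G := G); inferInstance
  set Y := vee p G ⊔ zedJ T with hY
  have hYW : Y ≤ wee p (T : Subgroup G) := sup_le_sup_left (show zedJ T ≤ normalClosure _ from subset_normalClosure) _
  suffices h : Y.Normal from le_antisymm (sup_le le_sup_left (normalClosure_le_normal (SetLike.coe_subset_coe.2 le_sup_right))) hYW
  have hJT : Cfsg.thompsonSubgroupOf p (T : Subgroup G) ≤ (T : Subgroup G) ⊓ Cfsg.thompsonSubgroup p G := by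
    refine le_inf (thompsonSubgroupOf_le _) ?_
    rw [thompsonSubgroupOf_sylow]
    exact sSup_le fun B hB => le_sSup hB.2
  have hJ : Cfsg.thompsonSubgroupOf p ((T : Subgroup G) ⊓ Cfsg.thompsonSubgroup p G) =
      Cfsg.thompsonSubgroupOf p (T : Subgroup G) := thompsonSubgroupOf_eq_of_le hJT inf_le_left
  have hN : normalizer (Cfsg.thompsonSubgroupOf p (T : Subgroup G) : Set G) ≤ normalizer (Y : Set G) := by
    intro g hg
    have hzg : g ∈ normalizer (zedJ T : Set G) := by
      rw [mem_normalizer_iff_map_conj_eq] at hg ⊢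
      show (zedJ T).map (MulAut.conj g).toMonoidHom = zedJ T
      rw [map_omegaOne _ (MulAut.conj g).injective, Cfsg.centerThompsonOf,
        Subgroup.map_inf _ _ _ (MulAut.conj g).injective, map_centralizer]
      erw [hg]
      rfl
    refine H74.mem_normalizer_of_conj_mem fun y hy => ?_
    rw [← SetLike.mem_coe, hY, coe_mul_of_right_le_normalizer_left _ _ le_normalizer_of_normal] at hy
    obtain ⟨v, hv, z, hz, rfl⟩ := hy
    rw [show g * (v * z) * g⁻¹ = (g * v * g⁻¹) * (g * z * g⁻¹) by group]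
    exact mul_mem (mem_sup_left (Normal.conj_mem inferInstance v hv g))
      (mem_sup_right ((mem_normalizer_iff.1 hzg z).1 hz))
  have hJG : Cfsg.thompsonSubgroup p G ≤ normalizer (Y : Set G) := fun j hj => by
    refine H74.mem_normalizer_of_conj_mem fun y hy => ?_
    have h1 : ⁅y, j⁆ ∈ Y := mem_sup_left (hc.comm_wee_thompson (commutator_mem_commutator (hYW hy) hj))
    have h2 := mul_mem (inv_mem h1) hy
    rwa [commutatorElement_inv, commutatorElement_def, inv_mul_cancel_right] at h2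
  rw [← normalizer_eq_top_iff, eq_top_iff, ← H35.sup_normalizer_sylow_inf T (Cfsg.thompsonSubgroup p G)]
  exact sup_le hJG ((normalizer_le_normalizer_thompson _).trans (by rw [hJ]; exact hN))

theorem pee_normal : (pee p (T : Subgroup G)).Normal := by
  haveI := wee_normal (T := T)
  haveI := pCore_normal' (G := G) (p := p)
  haveI : (centralizer (wee p (T : Subgroup G) : Set G)).Normal := normal_centralizer
  exact normal_inf_normal _ _

theorem Ctx.pee_eq (hc : Ctx T M) :
    Cfsg.pCore p G ⊓ Cfsg.baumannSubgroupOf p (T : Subgroup G) = pee p (T : Subgroup G) := by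
  refine le_antisymm (le_inf inf_le_left ?_) (le_inf inf_le_left (le_inf ?_ ?_))
  · rw [hc.wee_eq]
    refine le_centralizer_iff.1 (sup_le (le_centralizer_iff.1 (inf_le_left.trans core_le_cee)) ?_)
    exact le_centralizer_iff.1 (inf_le_right.trans B_le_cent_zedJ)
  · exact inf_le_left.trans (Cfsg.Agent.H72.pCore_le_sylow T)
  · refine inf_le_right.trans (centralizer_le (SetLike.coe_subset_coe.2 ?_))
    rw [hc.wee_eq]; exact le_sup_right

theorem Ctx.omega_baumann_le (hc : Ctx T M) :
    Cfsg.omegaOneCenter p (Cfsg.baumannSubgroupOf p (T : Subgroup G)) ≤ wee p (T : Subgroup G) := by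
  rw [hc.wee_eq]
  refine le_sup_of_le_right ((closure_le _).2 ?_)
  rintro x ⟨⟨-, hxc⟩, hxp⟩
  have hxJ : x ∈ centralizer (Cfsg.thompsonSubgroupOf p (T : Subgroup G) : Set G) :=
    centralizer_le (SetLike.coe_subset_coe.2 (H51.thompsonSubgroupOf_le_baumann _)) hxc
  refine mem_omegaOne ⟨?_, hxJ⟩ hxp
  obtain ⟨A, hAT, hA⟩ := exists_max_le_sylow T
  refine mem_le_thompsonOf hAT hA (le_of_mem_max hA (B := zpowers x) ⟨inferInstance, ?_⟩ ?_ (mem_zpowers x))
  · intro a ha
    obtain ⟨k, rfl⟩ := mem_zpowers_iff.1 ha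
    rw [← zpow_natCast, ← zpow_mul, mul_comm, zpow_mul, zpow_natCast, hxp, one_zpow]
  · exact le_centralizer_iff.1 (zpowers_le.2
      (centralizer_le (SetLike.coe_subset_coe.2 (mem_le_thompsonOf hAT hA)) hxJ))

/-- `C_G(P) ≤ P`. -/
theorem Ctx.cent_pee_le (hc : Ctx T M) :
    centralizer (pee p (T : Subgroup G) : Set G) ≤ pee p (T : Subgroup G) := by
  haveI := pee_normal (T := T)
  haveI : (centralizer (pee p (T : Subgroup G) : Set G)).Normal := normal_centralizer
  obtain ⟨hWe, hWQ⟩ := hc.wee_facts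
  haveI := hWe.1
  have hWP : wee p (T : Subgroup G) ≤ pee p (T : Subgroup G) :=
    le_inf hWQ (le_centralizer_iff_isMulCommutative.2 hWe.1)
  have hQC : Cfsg.pCore p G ⊓ centralizer (pee p (T : Subgroup G) : Set G) ≤ pee p (T : Subgroup G) :=
    fun x hx => ⟨hx.1, centralizer_le (SetLike.coe_subset_coe.2 hWP) hx.2⟩
  have hQp : IsPGroup p ↥(Cfsg.pCore p G) := H35.isPGroup_pCore p G
  have hN : IsPGroup p ↥(centralizer (pee p (T : Subgroup G) : Set G)) := by
    by_contra hnp
    obtain ⟨q, hq, hqd, hqp⟩ : ∃ q, q.Prime ∧ q ∣ Nat.card ↥(centralizer (pee p (T : Subgroup G) : Set G)) ∧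
        q ≠ p := by
      by_contra hno
      push Not at hno
      exact hnp (IsPGroup.of_card (Nat.eq_prime_pow_of_unique_prime_dvd Nat.card_pos.ne'
        fun {d} hd hdd => hno d hd hdd))
    haveI : Fact q.Prime := ⟨hq⟩
    obtain ⟨c, hcq⟩ := exists_prime_orderOf_dvd_card' q hqd
    have hc1 : orderOf (c : G) = q := by rw [orderOf_coe, hcq]
    have hdvd : ¬ p ∣ orderOf (c : G) := by
      rw [hc1]
      exact fun hd => hqp ((Nat.prime_dvd_prime_iff_eq (Fact.out : p.Prime) hq).1 hd).symm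
    haveI := pCore_normal' (G := G) (p := p)
    have hcom := H74.thompson_AxB hQp (hQp.to_le inf_le_left)
      (le_normalizer_of_normal (H := Cfsg.pCore p G) (K := pee p (T : Subgroup G)))
      (normalizer_eq_top_iff.2 (inferInstance : (Cfsg.pCore p G).Normal) ▸ mem_top (c : G)) hdvd
      (fun b hb => (mem_centralizer_iff.1 c.2 b hb).symm) (fun r hr hb => (mem_centralizer_iff.1 c.2 r
        (hQC ⟨hr, mem_centralizer_iff.2 fun b hb' => (hb b hb').eq⟩)).symm)
    obtain ⟨k, hk⟩ := hQp ⟨c, hc.charp (mem_centralizer_iff.2 fun r hr => (hcom r hr).eq.symm)⟩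
    have h1 : q ∣ p ^ k := hc1 ▸ orderOf_dvd_of_pow_eq_one (congrArg Subtype.val hk)
    exact hqp ((Nat.prime_dvd_prime_iff_eq hq (Fact.out : p.Prime)).1 (hq.dvd_of_dvd_pow h1))
  exact fun x hx => hQC ⟨Cfsg.Agent.H72.le_pCore inferInstance hN hx, hx⟩

/-- Supplements of `V` in `W`: the index of a subgroup is seen on `V`. -/
theorem relIndex_of_supplement {W K : Subgroup G} (hVW : vee p G ≤ W) (h : W ≤ vee p G ⊔ (W ⊓ K)) :
    K.relIndex W = K.relIndex (vee p G) := by
  haveI := vee_normal (G := G) (p := p)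
  have e : W = (W ⊓ K) ⊔ vee p G := le_antisymm (by rwa [sup_comm] at h) (sup_le inf_le_left hVW)
  have h1 := H32.card_sup_mul_card_inf (W ⊓ K) (vee p G)
  rw [← e] at h1
  have e1 : (W ⊓ K) ⊓ vee p G = vee p G ⊓ K :=
    le_antisymm (le_inf inf_le_right (inf_le_left.trans inf_le_right))
      (le_inf (le_inf (inf_le_left.trans hVW) inf_le_right) inf_le_left)
  rw [e1] at h1
  have h2 : Nat.card W = Nat.card ↥(W ⊓ K) * K.relIndex W := by
    rw [← inf_relIndex_left, H32.card_mul_relIndex (inf_le_left : W ⊓ K ≤ W)]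
  have h3 : Nat.card ↥(vee p G) = Nat.card ↥(vee p G ⊓ K) * K.relIndex (vee p G) := by
    rw [← inf_relIndex_left, H32.card_mul_relIndex (inf_le_left : vee p G ⊓ K ≤ vee p G)]
  rw [h2, h3] at h1
  refine Nat.eq_of_mul_eq_mul_left (Nat.mul_pos (Nat.card_pos (α := ↥(W ⊓ K)))
    (Nat.card_pos (α := ↥(vee p G ⊓ K)))) ?_
  calc Nat.card ↥(W ⊓ K) * Nat.card ↥(vee p G ⊓ K) * K.relIndex W
      = Nat.card ↥(W ⊓ K) * K.relIndex W * Nat.card ↥(vee p G ⊓ K) := by ring
    _ = _ := by rw [h1]; ring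

/-- The consequences. -/
theorem Ctx.core (hc : Ctx T M) {r : ℕ} {E : Fin r → Subgroup G} (h : Comps T E) (hg : GenData T E) :
    Core T E := by
  classical
  set W := wee p (T : Subgroup G)
  set B := Cfsg.baumannSubgroupOf p (T : Subgroup G)
  set J := Cfsg.thompsonSubgroupOf p (T : Subgroup G)
  haveI := vee_normal (G := G) (p := p)
  haveI := cee_normal (G := G) (p := p)
  haveI := wee_normal (T := T)
  haveI := pee_normal (T := T)
  haveI := pCore_normal' (G := G) (p := p)
  obtain ⟨hWe, hWQ⟩ := hc.wee_facts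
  haveI := hWe.1
  haveI : (centralizer (W : Set G)).Normal := normal_centralizer
  haveI : (Cfsg.thompsonSubgroup p G).Normal :=
    haveI := thompsonSubgroup_characteristic (p := p) (G := G); inferInstance
  haveI : (⨆ i, E i).Normal := h.sup ▸ sup_normal _ _
  have hWV : vee p G ≤ W := le_sup_left
  have hPW : pee p (T : Subgroup G) ≤ centralizer (W : Set G) := inf_le_right
  have hPB : pee p (T : Subgroup G) ≤ B := hc.pee_eq.ge.trans inf_le_right
  have hB_eq : J ⊔ pee p (T : Subgroup G) = B := by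
    refine le_antisymm (sup_le (H51.thompsonSubgroupOf_le_baumann _) hPB) fun b hb => ?_
    have h1 := hg.B_le_J hb
    rw [← SetLike.mem_coe, coe_mul_of_left_le_normalizer_right _ _ le_normalizer_of_normal] at h1
    obtain ⟨j, hj, q, hq, rfl⟩ := h1
    refine mul_mem (mem_sup_left hj) (mem_sup_right (hc.pee_eq.le ⟨hq, ?_⟩))
    simpa using mul_mem (B.inv_mem (H51.thompsonSubgroupOf_le_baumann _ hj)) hb
  obtain ⟨k, X, g, hXB, hBX, hXC, hprod⟩ := hg.gen
  set Xs := ⨆ j, X j
  have hj : ∀ j, W ≤ vee p G ⊔ (W ⊓ centralizer (X j : Set G)) := by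
    intro j
    have h0 : W.map (MulAut.conj (g j)).toMonoidHom ≤
        vee p G ⊔ (W ⊓ centralizer (X j : Set G)) := by
      conv_lhs => rw [show W = vee p G ⊔ zedJ T from hc.wee_eq, Subgroup.map_sup]
      refine sup_le (le_sup_of_le_left ?_) (le_sup_of_le_right (le_inf ?_ ?_))
      · rintro _ ⟨v, hv, rfl⟩
        exact Normal.conj_mem inferInstance v hv _
      · rintro _ ⟨z, hz, rfl⟩
        exact Normal.conj_mem inferInstance z
          (show z ∈ W from hc.wee_eq.ge (mem_sup_right hz)) _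
      · refine le_centralizer_iff.1 ((hXB j).trans ?_)
        rw [← map_centralizer]
        exact map_mono B_le_cent_zedJ
    refine le_trans (le_of_eq ?_) h0
    symm
    exact eq_of_le_of_card_ge (by rintro _ ⟨w, hw, rfl⟩; exact Normal.conj_mem inferInstance w hw _)
      (card_map_of_injective (MulAut.conj (g j)).injective).ge
  have hXs : centralizer (Xs : Set G) = ⨅ j, centralizer (X j : Set G) := by
    refine le_antisymm (le_iInf fun j => centralizer_le (SetLike.coe_subset_coe.2 (le_iSup X j))) ?_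
    exact le_centralizer_iff.1 (iSup_le fun j => le_centralizer_iff.1 (iInf_le _ j))
  have hVX : vee p G ⊓ centralizer (Xs : Set G) = vee p G ⊓ centralizer ((⨆ i, E i : Subgroup G) : Set G) := by
    refine le_antisymm (le_inf inf_le_left ?_)
      (inf_le_inf_left _ (centralizer_le (SetLike.coe_subset_coe.2 (le_sup_left.trans hXC.le))))
    rw [← hXC]
    refine le_centralizer_iff.1 (sup_le (le_centralizer_iff.1 inf_le_right) ?_)
    exact le_centralizer_iff.1 (inf_le_left.trans (le_centralizer_iff.1 le_rfl))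
  -- `W = V C_W(X)`
  have hsplit : W ≤ vee p G ⊔ (W ⊓ centralizer (Xs : Set G)) := by
    have h1 : (centralizer (Xs : Set G)).relIndex W ≤ (centralizer (Xs : Set G)).relIndex (vee p G) := by
      have e : (centralizer (Xs : Set G)).relIndex (vee p G) =
          (vee p G ⊓ centralizer ((⨆ i, E i : Subgroup G) : Set G)).relIndex (vee p G) := by
        rw [← inf_relIndex_left, hVX]
      rw [e, hXs]
      refine (relIndex_iInf_le _).trans (le_trans (le_of_eq ?_) hprod)
      refine Finset.prod_congr rfl fun j _ => ?_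
      rw [relIndex_of_supplement hWV (hj j), ← inf_relIndex_left]
    set K := centralizer (Xs : Set G)
    have hle : (W ⊓ K) ⊔ vee p G ≤ W := sup_le inf_le_left hWV
    rw [sup_comm]
    refine (eq_of_le_of_card_ge hle ?_).ge
    have h2 : Nat.card W = Nat.card ↥(W ⊓ K) * K.relIndex W := by
      rw [← inf_relIndex_left, H32.card_mul_relIndex (inf_le_left : W ⊓ K ≤ W)]
    have h3 : Nat.card ↥(vee p G) = Nat.card ↥(vee p G ⊓ K) * K.relIndex (vee p G) := by
      rw [← inf_relIndex_left, H32.card_mul_relIndex (inf_le_left : vee p G ⊓ K ≤ vee p G)]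
    have h4 := H32.card_sup_mul_card_inf (W ⊓ K) (vee p G)
    have e1 : (W ⊓ K) ⊓ vee p G = vee p G ⊓ K :=
      le_antisymm (le_inf inf_le_right (inf_le_left.trans inf_le_right))
        (le_inf (le_inf (inf_le_left.trans hWV) inf_le_right) inf_le_left)
    rw [e1, h3] at h4
    refine Nat.le_of_mul_le_mul_right (c := Nat.card ↥(vee p G ⊓ K)) ?_ Nat.card_pos
    rw [h4, h2]
    calc Nat.card ↥(W ⊓ K) * K.relIndex W * Nat.card ↥(vee p G ⊓ K)
        ≤ Nat.card ↥(W ⊓ K) * K.relIndex (vee p G) * Nat.card ↥(vee p G ⊓ K) :=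
          Nat.mul_le_mul_right _ (Nat.mul_le_mul_left _ h1)
      _ = _ := by ring
  set W₀ := W ⊓ centralizer (Xs : Set G)
  -- conjugates of `B` under `C`
  set D := centralizer (W : Set G)
  have hDW : D ≤ centralizer (W₀ : Set G) := centralizer_le (SetLike.coe_subset_coe.2 inf_le_left)
  set N := cee p G ⊓ Cfsg.thompsonSubgroup p G
  haveI : N.Normal := normal_inf_normal _ _
  set π := QuotientGroup.mk' D with hπ
  have hNp : IsPGroup p ↥(N.map π) := by
    rintro ⟨_, n, hn, rfl⟩
    refine ⟨1, Subtype.ext ?_⟩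
    rw [pow_one, SubgroupClass.coe_pow, coe_one, ← map_pow, ← MonoidHom.mem_ker, QuotientGroup.ker_mk']
    refine mem_centralizer_iff.2 fun w hw => ?_
    have hv : ⁅n, w⁆ ∈ vee p G := by
      rw [← commutatorElement_inv]
      exact inv_mem (hc.comm_wee_thompson (commutator_mem_commutator hw hn.2))
    have hfix : ∀ v ∈ vee p G, n * v * n⁻¹ = v := fun v hv => by
      rw [← mem_centralizer_iff.1 hn.1 v hv, mul_inv_cancel_right]
    have hcw : ⁅n, w⁆ * w = w * ⁅n, w⁆ := setLike_mul_comm (hWV hv) hw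
    have key : ∀ m : ℕ, n ^ m * w * (n ^ m)⁻¹ = ⁅n, w⁆ ^ m * w := by
      intro m
      induction m with
      | zero => simp
      | succ m ih =>
        calc n ^ (m + 1) * w * (n ^ (m + 1))⁻¹ = n * (n ^ m * w * (n ^ m)⁻¹) * n⁻¹ := by
              rw [pow_succ']; group
          _ = (n * ⁅n, w⁆ ^ m * n⁻¹) * (n * w * n⁻¹) := by rw [ih]; group
          _ = ⁅n, w⁆ ^ m * (⁅n, w⁆ * w) := by
              rw [hfix _ (pow_mem hv m), commutatorElement_def]; group
          _ = _ := by rw [pow_succ]; group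
    have h1 := key p
    rw [vee_elementary.2 _ hv, one_mul] at h1
    exact (mul_inv_eq_iff_eq_mul.1 h1).symm
  have hNT : N ≤ (T : Subgroup G) ⊔ D := by
    have h1 : N.map π ≤ (T : Subgroup G).map π := by
      haveI : (N.map π).Normal := Normal.map inferInstance π (QuotientGroup.mk'_surjective D)
      exact (Cfsg.Agent.H72.le_pCore inferInstance hNp).trans
        ((Cfsg.Agent.H72.pCore_le_sylow (T.mapSurjective (QuotientGroup.mk'_surjective D))).trans
          (le_of_eq (Sylow.coe_mapSurjective _ T)))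
    intro n hn
    obtain ⟨t, ht, e⟩ := h1 (mem_map_of_mem π hn)
    have h2 : t⁻¹ * n ∈ D := QuotientGroup.eq.1 e
    simpa using mul_mem (mem_sup_left ht : t ∈ (T : Subgroup G) ⊔ D) (mem_sup_right h2 : t⁻¹ * n ∈ (T : Subgroup G) ⊔ D)
  have hJc : ∀ c ∈ cee p G, J.map (MulAut.conj c).toMonoidHom ≤ J ⊔ D := by
    intro c hcC
    rw [map_le_iff_le_comap]
    refine le_trans (thompsonSubgroupOf_sylow T).le ?_
    refine sSup_le fun A hA => map_le_iff_le_comap.1 ?_
    set A' := A.map (MulAut.conj c).toMonoidHom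
    have hA'H : A' ≤ (T : Subgroup G) ⊔ D := by
      rintro _ ⟨a, ha, rfl⟩
      have h1 : ⁅c, a⁆ ∈ N := by
        refine ⟨?_, ?_⟩
        · rw [commutatorElement_def, mul_assoc, mul_assoc, ← mul_assoc a]
          exact mul_mem hcC (Normal.conj_mem inferInstance _ (inv_mem hcC) a)
        · have haJ : a ∈ Cfsg.thompsonSubgroup p G := le_sSup hA.2 ha
          rw [commutatorElement_def]
          exact mul_mem (Normal.conj_mem inferInstance a haJ c) (Subgroup.inv_mem _ haJ)
      have h2 : ⁅c, a⁆ * a ∈ (T : Subgroup G) ⊔ D := mul_mem (hNT h1) (mem_sup_left (hA.1 ha))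
      simpa [commutatorElement_def] using h2
    have hA' : A' ∈ Cfsg.maxElementaryAbelianSubgroups p G := map_mem_max _ hA.2
    have hidx : ¬ p ∣ (T : Subgroup G).relIndex ((T : Subgroup G) ⊔ D) := fun hd => T.not_dvd_index
      (hd.trans (relIndex_dvd_index_of_le le_sup_left))
    obtain ⟨x, hx, hxA⟩ := H74.exists_conj_le_of_relIndex le_sup_left T.2 hidx hA'H
      (IsPGroup_of_isElementaryAbelian hA'.1)
    have h3 : A'.map (MulAut.conj x).toMonoidHom ≤ J :=
      mem_le_thompsonOf (by rintro _ ⟨y, hy, rfl⟩; exact hxA y hy) (map_mem_max _ hA')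
    have hxn : x ∈ normalizer ((J ⊔ D : Subgroup G) : Set G) := by
      refine (sup_le (fun t ht => ?_) (le_sup_right.trans le_normalizer) : (T : Subgroup G) ⊔ D ≤ _) hx
      refine H74.mem_normalizer_of_conj_mem fun y hy => ?_
      rw [← SetLike.mem_coe, coe_mul_of_left_le_normalizer_right _ _ le_normalizer_of_normal] at hy
      obtain ⟨j, hj, d, hd, rfl⟩ := hy
      rw [show t * (j * d) * t⁻¹ = (t * j * t⁻¹) * (t * d * t⁻¹) by group]
      exact mul_mem (mem_sup_left ((mem_normalizer_iff.1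
        ((le_normalizer.trans (normalizer_le_normalizer_thompson _)) ht) j).1 hj))
        (mem_sup_right (Normal.conj_mem inferInstance d hd t))
    intro y hy
    exact (mem_normalizer_iff.1 hxn y).2 (mem_sup_left (h3 (mem_map_of_mem _ hy)))
  have hBW₀ : B ≤ centralizer (W₀ : Set G) := by
    intro b hb
    have h1 := hBX hb
    rw [← SetLike.mem_coe, coe_mul_of_left_le_normalizer_right _ _ le_normalizer_of_normal] at h1
    obtain ⟨x, hx, q, hq, rfl⟩ := h1
    have hqB : q ∈ pee p (T : Subgroup G) := hc.pee_eq.le ⟨hq, by simpa using mul_mem (B.inv_mem hx.1) hb⟩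
    exact mul_mem (le_centralizer_iff.1 inf_le_right hx.2) (hDW (hPW hqB))
  have hBL : ell p (T : Subgroup G) ≤ centralizer (W₀ : Set G) := by
    refine (closure_le _).2 fun y hy => ?_
    obtain ⟨b, hb, hby⟩ := Group.mem_conjugatesOfSet_iff.1 hy
    obtain ⟨g₀, rfl⟩ := isConj_iff.1 hby
    have hg₀ : g₀ ∈ (⨆ i, E i) ⊔ (T : Subgroup G) := h.top ▸ mem_top g₀
    rw [← SetLike.mem_coe, coe_mul_of_right_le_normalizer_left _ _ le_normalizer_of_normal] at hg₀
    obtain ⟨e, he, t, ht, rfl⟩ := hg₀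
    rw [← hXC] at he
    rw [SetLike.mem_coe, ← SetLike.mem_coe, coe_mul_of_left_le_normalizer_right _ _ le_normalizer_of_normal] at he
    obtain ⟨x, hx, c, hcC, rfl⟩ := he
    have hbt : t * b * t⁻¹ ∈ B := (mem_normalizer_iff.1 (H51.le_normalizer_baumann _ ht) b).1 hb
    have hBc : B.map (MulAut.conj c).toMonoidHom ≤ centralizer (W₀ : Set G) := by
      rw [← hB_eq, Subgroup.map_sup]
      refine sup_le ((hJc c hcC).trans (sup_le ?_ hDW)) ?_
      · exact (H51.thompsonSubgroupOf_le_baumann _).trans hBW₀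
      · rintro _ ⟨q, hq, rfl⟩
        exact hDW (hPW (Normal.conj_mem inferInstance q hq c))
    have h2 : c * (t * b * t⁻¹) * c⁻¹ ∈ centralizer (W₀ : Set G) := hBc (mem_map_of_mem _ hbt)
    have hx' : x ∈ centralizer (W₀ : Set G) := le_centralizer_iff.1 inf_le_right hx
    have h3 := mul_mem (mul_mem hx' h2) (inv_mem hx')
    rw [SetLike.mem_coe]
    convert h3 using 1
    group
  have hL_le : ell p (T : Subgroup G) ≤ ⨆ i, E i := normalClosure_le_normal hg.B_le
  have hL_cent : ell p (T : Subgroup G) ⊓ cee p G ≤ centralizer (W : Set G) := by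
    refine le_trans ?_ (centralizer_le (SetLike.coe_subset_coe.2 hsplit))
    refine le_centralizer_iff.1 (sup_le (le_centralizer_iff.1 inf_le_right) ?_)
    exact le_centralizer_iff.1 (inf_le_left.trans hBL)
  refine
    { B_le := hg.B_le
      B_eq := hB_eq
      W_elem := hWe
      W_le := le_inf hWQ (le_centralizer_iff_isMulCommutative.2 hWe.1)
      P_eq := hc.pee_eq
      P_cent := hc.cent_pee_le
      omega_B := hc.omega_baumann_le
      L_le := hL_le
      L_sup := ?_
      L_cent := hL_cent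
      L_core := ?_
      W_split := ?_ }
  · refine le_antisymm (sup_le hL_le ((h.cent_le ⟨0, h.pos⟩).trans (le_iSup E _))) ?_
    rw [← hXC]
    refine sup_le_sup_right (iSup_le fun j => (hXB j).trans ?_) _
    rintro _ ⟨b, hb, rfl⟩
    haveI : (ell p (T : Subgroup G)).Normal := normalClosure_normal
    exact Normal.conj_mem inferInstance b (subset_normalClosure hb) _
  · refine le_antisymm (le_inf inf_le_right ((inf_le_inf_left _ core_le_cee).trans hL_cent)) (le_inf ?_ inf_le_left)
    exact hPB.trans subset_normalClosure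
  · refine le_antisymm (hsplit.trans (sup_le_sup_left (le_inf inf_le_left ?_) _)) (sup_le hWV inf_le_left)
    exact le_centralizer_iff.1 hBL

end Cfsg.Agent.H34.Push
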