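import Cfsg.Prelude.Def_BaumannBlocks
import Cfsg.Agent.H72.Push.FromSetup

/-!
Interfaces for pushing up in minimal parabolic groups: what the rank one pieces and the symmetric piece supply.
-/

set_option autoImplicit false

open scoped commutatorElement

namespace Cfsg.Agent.H34.Push

open Subgroup

variable {G : Type*} [Group G]

/-- The data of a rank one group with Sylow `p`-subgroup `S` in which nothing characteristic in `S` is normal:
the residual is a block relative to `S`. -/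
structure RankData (p : ℕ) (S : Subgroup G) (F : Type) [Field F] [Fintype F] (n : ℕ) : Prop where
  quot : ∃ ρ : G →* Matrix.SpecialLinearGroup (Fin 2) F, Function.Surjective ρ ∧ ρ.ker = Cfsg.pCore p G
  comm_S : ⁅Cfsg.pResidual p G, S⁆ = Cfsg.pResidual p G
  core_comm : ⁅Cfsg.pCore p G, Cfsg.pResidual p G⁆ = Cfsg.pCoreOf p (Cfsg.pResidual p G)
  core_self : ⁅Cfsg.pCoreOf p (Cfsg.pResidual p G), Cfsg.pResidual p G⁆ = Cfsg.pCoreOf p (Cfsg.pResidual p G)
  frat : ⁅(frattini ↥(Cfsg.pCore p G)).map (Cfsg.pCore p G).subtype, Cfsg.pResidual p G⁆ = ⊥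
  omega_comm : ⁅Cfsg.omegaOneCenter p (Cfsg.pCoreOf p (Cfsg.pResidual p G)), Cfsg.pResidual p G⁆ ≤
    normalClosure (Cfsg.omegaOneCenter p S : Set G)
  iso : Nonempty (↥(Cfsg.pResidual p G) ⧸ Cfsg.pCore p ↥(Cfsg.pResidual p G) ≃*
    ↥(commutator (Matrix.SpecialLinearGroup (Fin 2) F)))
  act : Cfsg.ActsAsSL2OnSection F (commutator (Matrix.SpecialLinearGroup (Fin 2) F)) (Cfsg.pResidual p G)
    (Cfsg.omegaOneCenter p (Cfsg.pCoreOf p (Cfsg.pResidual p G)))
    (Cfsg.omegaOneCenter p (Cfsg.pCoreOf p (Cfsg.pResidual p G)) ⊓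
      centralizer (Cfsg.pResidual p G : Set G))
  shape : Cfsg.pCoreOf p (Cfsg.pResidual p G) =
      Cfsg.omegaOneCenter p (Cfsg.pCoreOf p (Cfsg.pResidual p G)) ∨
    (p = 3 ∧
      Cfsg.ActsAsSL2OnSection F (commutator (Matrix.SpecialLinearGroup (Fin 2) F)) (Cfsg.pResidual p G)
        (Cfsg.pCoreOf p (Cfsg.pResidual p G))
        (Cfsg.omegaOneCenter p (Cfsg.pCoreOf p (Cfsg.pResidual p G))) ∧
      ⁅Cfsg.pCoreOf p (Cfsg.pResidual p G), Cfsg.pCoreOf p (Cfsg.pResidual p G)⁆ =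
        Cfsg.omegaOneCenter p (Cfsg.pCoreOf p (Cfsg.pResidual p G)) ⊓
          centralizer (Cfsg.pResidual p G : Set G) ∧
      (frattini ↥(Cfsg.pCoreOf p (Cfsg.pResidual p G))).map (Cfsg.pCoreOf p (Cfsg.pResidual p G)).subtype =
        Cfsg.omegaOneCenter p (Cfsg.pCoreOf p (Cfsg.pResidual p G)) ⊓
          centralizer (Cfsg.pResidual p G : Set G) ∧
      Cfsg.pResidual p G ⊓ centralizer (Cfsg.pResidual p G : Set G) =
        Cfsg.omegaOneCenter p (Cfsg.pCoreOf p (Cfsg.pResidual p G)) ⊓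
          centralizer (Cfsg.pResidual p G : Set G) ∧
      Nat.card ↥(Cfsg.pResidual p G ⊓ centralizer (Cfsg.pResidual p G : Set G)) = 3 ^ n ∧
      ∀ b : G, b ∈ S → b ∉ centralizer (Cfsg.omegaOneCenter p (Cfsg.pCoreOf p (Cfsg.pResidual p G)) : Set G) →
        ¬ ⁅⁅Cfsg.pCoreOf p (Cfsg.pResidual p G), zpowers b⁆, zpowers b⁆ ≤
          Cfsg.pResidual p G ⊓ centralizer (Cfsg.pResidual p G : Set G))

end Cfsg.Agent.H34.Push
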