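import Cfsg.Prelude.Def_BaumannBlocks
import Cfsg.Agent.H34.Push.Spec
import Cfsg.Agent.H34.Star.Local
import Cfsg.Agent.H51.BaumannBasic

/-!
Standing data for pushing up in minimal parabolic groups: the hypotheses, the subgroups `V`, `C`, `W`, `P`,
`L`, the components over `C`, and what the later steps supply.
-/

set_option autoImplicit false

open scoped commutatorElement

namespace Cfsg.Agent.H34.Push

open Subgroup

universe u

section Subgroups

variable {G : Type u} [Group G] (p : ℕ)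

/-- `Ω₁(Z(O_p(G)))`. -/
abbrev vee (G : Type u) [Group G] : Subgroup G := Cfsg.omegaOneCenter p (Cfsg.pCore p G)

/-- Its centraliser. -/
abbrev cee (G : Type u) [Group G] : Subgroup G := centralizer (vee p G : Set G)

/-- `V` together with the normal closure of `Ω₁(Z(J(T)))`. -/
def wee (T : Subgroup G) : Subgroup G :=
  vee p G ⊔ normalClosure (Cfsg.omegaOne p (Cfsg.centerThompsonOf p T) : Set G)

/-- `C_{O_p(G)}(W)`. -/
def pee (T : Subgroup G) : Subgroup G := Cfsg.pCore p G ⊓ centralizer (wee p T : Set G)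

/-- The normal closure of the Baumann subgroup. -/
def ell (T : Subgroup G) : Subgroup G := normalClosure (Cfsg.baumannSubgroupOf p T : Set G)

end Subgroups

variable {G : Type u} [Group G] {p : ℕ} [Fact p.Prime]

/-- The standing hypotheses. -/
structure Ctx (T : Sylow p G) (M : Subgroup G) : Prop where
  pmin : Cfsg.IsPMinimal p G
  charp : centralizer (Cfsg.pCore p G : Set G) ≤ Cfsg.pCore p G
  hchar : ∀ C : Subgroup G, C ≤ Cfsg.baumannSubgroupOf p (T : Subgroup G) → C ≠ ⊥ →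
    (C.subgroupOf (Cfsg.baumannSubgroupOf p (T : Subgroup G))).Characteristic → ¬ C.Normal
  hz : ¬ (Cfsg.omegaOneCenter p (T : Subgroup G)).Normal
  hM : IsCoatom M
  hTM : (T : Subgroup G) ≤ M

/-- The components over `C = C_G(V)` of the local theorem. -/
structure Comps (T : Sylow p G) {r : ℕ} (E : Fin r → Subgroup G) : Prop where
  pos : 1 ≤ r
  cent_le : ∀ i, cee p G ≤ E i
  sup : (⨆ i, E i) = Cfsg.thompsonSubgroup p G ⊔ cee p G
  top : (⨆ i, E i) ⊔ (T : Subgroup G) = ⊤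
  comm : ∀ i j, i ≠ j → ⁅E i, E j⁆ ≤ cee p G
  direct : ∀ i, E i ⊓ (⨆ j ∈ {j | j ≠ i}, E j) ≤ cee p G
  trans : ∀ i j, ∃ t ∈ (T : Subgroup G), (E i).map (MulAut.conj t).toMonoidHom = E j
  perm : ∀ t ∈ (T : Subgroup G), ∀ i, ∃ j, (E i).map (MulAut.conj t).toMonoidHom = E j
  dec : (vee p G ⊓ centralizer ((⨆ i, E i : Subgroup G) : Set G)) ⊔ (⨆ i, ⁅vee p G, E i⁆) = vee p G
  cross : ∀ i j, i ≠ j → ⁅⁅vee p G, E i⁆, E j⁆ = ⊥

/-- A linear component: `E / C ≅ SL₂(F)` on its natural module. -/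
structure LinRep (p : ℕ) (E : Subgroup G) {F : Type} [Field F]
    (ρ : ↥E →* Matrix.SpecialLinearGroup (Fin 2) F) (ψ : ↥⁅vee p G, E⁆ →* Multiplicative (Fin 2 → F)) : Prop where
  surj : Function.Surjective ρ
  ker : ∀ e : ↥E, ρ e = 1 ↔ (e : G) ∈ cee p G
  onto : Function.Surjective ψ
  kerψ : ∀ u : ↥⁅vee p G, E⁆, ψ u = 1 ↔ (u : G) ∈ centralizer (E : Set G)
  act : ∀ (e : ↥E) (u w : ↥⁅vee p G, E⁆), (w : G) = (e : G) * (u : G) * (e : G)⁻¹ →
    Multiplicative.toAdd (ψ w) =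
      ((ρ e : Matrix.SpecialLinearGroup (Fin 2) F) : Matrix (Fin 2) (Fin 2) F).mulVec (Multiplicative.toAdd (ψ u))

/-- A symmetric component: `E / C` is symmetric on the even-weight module, transpositions fix hyperplanes of `V`. -/
structure SymRep (p : ℕ) (E : Subgroup G) {m : ℕ} (ρ : ↥E →* Equiv.Perm (Fin m))
    (ψ : ↥⁅vee p G, E⁆ →* Multiplicative (Fin m → ZMod 2)) : Prop where
  surj : Function.Surjective ρ
  ker : ∀ e : ↥E, ρ e = 1 ↔ (e : G) ∈ cee p G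
  even : ∀ u : ↥⁅vee p G, E⁆, ∑ i, Multiplicative.toAdd (ψ u) i = 0
  onto : ∀ v : Fin m → ZMod 2, ∑ i, v i = 0 → ∃ u : ↥⁅vee p G, E⁆, Multiplicative.toAdd (ψ u) = v
  kerψ : ∀ u : ↥⁅vee p G, E⁆, ψ u = 1 ↔ (u : G) ∈ centralizer (E : Set G)
  act : ∀ (e : ↥E) (u w : ↥⁅vee p G, E⁆), (w : G) = (e : G) * (u : G) * (e : G)⁻¹ →
    ∀ i, Multiplicative.toAdd (ψ w) i = Multiplicative.toAdd (ψ u) ((ρ e)⁻¹ i)
  transv : ∀ (e : ↥E) (a b : Fin m), a ≠ b → ρ e = Equiv.swap a b →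
    (vee p G ⊓ centralizer ({(e : G)} : Set G)).relIndex (vee p G) = 2

/-- All components are linear over `F` of order `pⁿ`. -/
structure LinCase (T : Sylow p G) {r : ℕ} (E : Fin r → Subgroup G) (F : Type) [Field F] [Fintype F] (n : ℕ) :
    Prop extends Comps T E where
  pos_n : 1 ≤ n
  card : Fintype.card F = p ^ n
  rep : ∀ i, ∃ ρ ψ, LinRep p (E i) (F := F) ρ ψ

/-- All components are symmetric of degree `2ⁿ + 1`. -/
structure SymCase (T : Sylow p G) {r : ℕ} (E : Fin r → Subgroup G) (n : ℕ) : Prop extends Comps T E where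
  two : p = 2
  pos_n : 1 ≤ n
  rep : ∀ i, ∃ ρ ψ, SymRep p (E i) (m := 2 ^ n + 1) ρ ψ

/-- What the images give for the argument on `W`: few conjugates of pieces of `B(T)` generate the components. -/
structure GenData (T : Sylow p G) {r : ℕ} (E : Fin r → Subgroup G) : Prop where
  B_le : Cfsg.baumannSubgroupOf p (T : Subgroup G) ≤ ⨆ i, E i
  B_le_J : Cfsg.baumannSubgroupOf p (T : Subgroup G) ≤
    Cfsg.thompsonSubgroupOf p (T : Subgroup G) ⊔ Cfsg.pCore p G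
  gen : ∃ (k : ℕ) (X : Fin k → Subgroup G) (g : Fin k → G),
    (∀ j, X j ≤ (Cfsg.baumannSubgroupOf p (T : Subgroup G)).map (MulAut.conj (g j)).toMonoidHom) ∧
    Cfsg.baumannSubgroupOf p (T : Subgroup G) ≤
      (Cfsg.baumannSubgroupOf p (T : Subgroup G) ⊓ ⨆ j, X j) ⊔ Cfsg.pCore p G ∧
    (⨆ j, X j) ⊔ cee p G = ⨆ i, E i ∧
    ∏ j, (vee p G ⊓ centralizer (X j : Set G)).relIndex (vee p G) ≤
      (vee p G ⊓ centralizer ((⨆ i, E i : Subgroup G) : Set G)).relIndex (vee p G)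

/-- The consequences for `W`, `P` and `L`. -/
structure Core (T : Sylow p G) {r : ℕ} (E : Fin r → Subgroup G) : Prop where
  B_le : Cfsg.baumannSubgroupOf p (T : Subgroup G) ≤ ⨆ i, E i
  B_eq : Cfsg.thompsonSubgroupOf p (T : Subgroup G) ⊔ pee p (T : Subgroup G) =
    Cfsg.baumannSubgroupOf p (T : Subgroup G)
  W_elem : Cfsg.IsElementaryAbelian p (wee p (T : Subgroup G))
  W_le : wee p (T : Subgroup G) ≤ pee p (T : Subgroup G)
  P_eq : Cfsg.pCore p G ⊓ Cfsg.baumannSubgroupOf p (T : Subgroup G) = pee p (T : Subgroup G)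
  P_cent : centralizer (pee p (T : Subgroup G) : Set G) ≤ pee p (T : Subgroup G)
  omega_B : Cfsg.omegaOneCenter p (Cfsg.baumannSubgroupOf p (T : Subgroup G)) ≤ wee p (T : Subgroup G)
  L_le : ell p (T : Subgroup G) ≤ ⨆ i, E i
  L_sup : ell p (T : Subgroup G) ⊔ cee p G = ⨆ i, E i
  L_cent : ell p (T : Subgroup G) ⊓ cee p G ≤ centralizer (wee p (T : Subgroup G) : Set G)
  L_core : ell p (T : Subgroup G) ⊓ Cfsg.pCore p G = pee p (T : Subgroup G)
  W_split : wee p (T : Subgroup G) =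
    vee p G ⊔ (wee p (T : Subgroup G) ⊓ centralizer (ell p (T : Subgroup G) : Set G))

/-- A rank one subgroup above the Baumann subgroup which, with `T`, generates everything. -/
structure RankSub (T : Sylow p G) (F : Type) [Field F] [Fintype F] (n : ℕ) (R : Subgroup G) : Prop where
  B_le : Cfsg.baumannSubgroupOf p (T : Subgroup G) ≤ R
  le_L : R ≤ ell p (T : Subgroup G)
  setup : ∃ (S : Sylow p ↥R) (K : Subgroup ↥R),
    (S : Subgroup ↥R) = (Cfsg.baumannSubgroupOf p (T : Subgroup G)).subgroupOf R ∧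
      H72.RankOne.Setup S K F n
  noChar : H72.Push.NoChar ((Cfsg.baumannSubgroupOf p (T : Subgroup G)).subgroupOf R)
  gen : R ⊔ (T : Subgroup G) = ⊤

/-- In a symmetric component the image of `B(T)` is generated by the transpositions of one pairing `σ` with a
single fixed point `f`, and `T` is transitive on the other points. -/
structure SymLeaves (T : Sylow p G) (E : Subgroup G) {m : ℕ} (ρ : ↥E →* Equiv.Perm (Fin m))
    (σ : Equiv.Perm (Fin m)) (f : Fin m) : Prop where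
  invol : ∀ a, σ (σ a) = a
  fixed : ∀ a, σ a = a ↔ a = f
  image : ∀ e : ↥E, (e : G) ∈ Cfsg.baumannSubgroupOf p (T : Subgroup G) ⊔ cee p G ↔
    ∀ a, ρ e a = a ∨ ρ e a = σ a
  sylow : ∀ e : ↥E, (e : G) ∈ (T : Subgroup G) → ρ e f = f
  trans : ∀ a b, a ≠ f → b ≠ f → ∃ e : ↥E, (e : G) ∈ (T : Subgroup G) ∧ ρ e a = b
  lift : ∀ a, a ≠ f → ∃ y : ↥E, (y : G) ∈ Cfsg.baumannSubgroupOf p (T : Subgroup G) ∧ y * y = 1 ∧
    ρ y = Equiv.swap a (σ a)

/-- All symmetric components have their pairing. -/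
structure SymImages (T : Sylow p G) {r : ℕ} (E : Fin r → Subgroup G) (n : ℕ) : Prop where
  leaves : ∀ i (ρ : ↥(E i) →* Equiv.Perm (Fin (2 ^ n + 1))) ψ, SymRep p (E i) ρ ψ →
    ∃ σ f, SymLeaves T (E i) ρ σ f
  split : (⨆ i, (Cfsg.baumannSubgroupOf p (T : Subgroup G) ⊔ cee p G) ⊓ E i) =
    Cfsg.baumannSubgroupOf p (T : Subgroup G) ⊔ cee p G

/-- A family of commuting blocks normalised by `L`, permuted by `T` and generating with `T`. -/
structure Family (T : Sylow p G) {r : ℕ} (B : Fin r → Subgroup G) : Prop where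
  block : ∀ i, Cfsg.IsBaumannBlock p (T : Subgroup G) (B i)
  norm : ∀ i, ell p (T : Subgroup G) ≤ normalizer (B i : Set G)
  le_L : ∀ i, B i ≤ ell p (T : Subgroup G)
  perm : ∀ t ∈ (T : Subgroup G), ∀ i, ∃ j, (B i).map (MulAut.conj t).toMonoidHom = B j
  comm : ∀ i j, i ≠ j → ⁅B i, B j⁆ = ⊥
  gen : (⨆ i, B i) ⊔ (T : Subgroup G) = ⊤

/-- The clauses of the theorem on `C*(G,T)`. -/
structure StarClauses (T : Sylow p G) {r : ℕ} (B : Fin r → Subgroup G) : Prop where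
  inter : Cfsg.cStarOf p (T : Subgroup G) ⊓ (⨆ i, B i) = ⨆ i, (Cfsg.cStarOf p (T : Subgroup G) ⊓ B i)
  shape : ∀ i,
    (∃ (F : Type) (_ : Field F) (_ : Fintype F) (m : ℕ), 3 < p ^ m ∧ Fintype.card F = p ^ m ∧
        Nonempty (↥(B i) ⧸ Cfsg.pCore p ↥(B i) ≃* Matrix.SpecialLinearGroup (Fin 2) F) ∧
        Cfsg.cStarOf p (T : Subgroup G) ⊓ B i =
          B i ⊓ normalizer (((T : Subgroup G) ⊓ B i : Subgroup G) : Set G)) ∨
    (p = 2 ∧ ∃ m : ℕ, Nonempty (↥(B i) ⧸ Cfsg.pCore p ↥(B i) ≃* ↥(alternatingGroup (Fin (2 * m + 1)))) ∧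
        Nonempty (↥(((Cfsg.cStarOf p (T : Subgroup G) ⊓ B i).subgroupOf (B i)).map
          (QuotientGroup.mk' (Cfsg.pCore p ↥(B i)))) ≃* ↥(alternatingGroup (Fin (2 * m))))) ∨
    (p = 3 ∧ Nonempty (↥(B i) ⧸ Cfsg.pCore p ↥(B i) ≃*
          ↥(commutator (Matrix.SpecialLinearGroup (Fin 2) (ZMod 3)))) ∧
        ((Cfsg.cStarOf p (T : Subgroup G) ⊓ B i).subgroupOf (B i)).map
          (QuotientGroup.mk' (Cfsg.pCore p ↥(B i))) = Subgroup.center (↥(B i) ⧸ Cfsg.pCore p ↥(B i)))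
  alt : ∀ i, ∀ m : ℕ,
    Nonempty (↥(B i) ⧸ Cfsg.pCore p ↥(B i) ≃* ↥(alternatingGroup (Fin (2 * m + 1)))) →
      ∃ n : ℕ, 2 * m + 1 = 2 ^ n + 1
  top : Cfsg.cStarOf p (T : Subgroup G) =
    (Cfsg.cStarOf p (T : Subgroup G) ⊓ ⨆ i, B i) ⊔ (T : Subgroup G)

/-- What rank one pushing up gives for the residual `E` of a rank one subgroup `R`, read in `G`. -/
structure RankBlock (T : Sylow p G) (F : Type) [Field F] [Fintype F] (n : ℕ) (R : Subgroup G) : Prop where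
  block : Cfsg.IsBaumannBlock p (T : Subgroup G) (Cfsg.pResidualOf p R)
  iso : Nonempty (↥(Cfsg.pResidualOf p R) ⧸ Cfsg.pCore p ↥(Cfsg.pResidualOf p R) ≃*
    ↥(commutator (Matrix.SpecialLinearGroup (Fin 2) F)))
  sup : Cfsg.pResidualOf p R ⊔ Cfsg.baumannSubgroupOf p (T : Subgroup G) = R
  core_le : Cfsg.pCoreOf p (Cfsg.pResidualOf p R) ≤ pee p (T : Subgroup G)
  comm_P : ⁅pee p (T : Subgroup G), Cfsg.pResidualOf p R⁆ ≤ Cfsg.pCoreOf p (Cfsg.pResidualOf p R)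
  frat : ⁅(frattini ↥(pee p (T : Subgroup G))).map (pee p (T : Subgroup G)).subtype, Cfsg.pResidualOf p R⁆ = ⊥
  omega : ⁅Cfsg.omegaOneCenter p (Cfsg.pCoreOf p (Cfsg.pResidualOf p R)), Cfsg.pResidualOf p R⁆ ≤
    wee p (T : Subgroup G)
  top : (⨆ t : ↥(T : Subgroup G), (Cfsg.pResidualOf p R).map (MulAut.conj (t : G)).toMonoidHom) ⊔
    (T : Subgroup G) = ⊤
  two : p = 2 → ⁅pee p (T : Subgroup G), Cfsg.pResidualOf p R⁆ ≤ wee p (T : Subgroup G)

end Cfsg.Agent.H34.Push
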