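import Cfsg.Agent.H34.Push.KillTools
import Cfsg.Agent.H22.PResidual
import Mathlib

/-!
A rank one block generating with `T` forces `C_G(V) = O_p(G)`.
-/

set_option autoImplicit false
set_option linter.style.haveILetI false
set_option linter.unusedSectionVars false
set_option maxHeartbeats 1000000

open scoped commutatorElement

namespace Cfsg.Agent.H34.Push

open Subgroup

universe u

variable {G : Type u} [Group G] [Finite G] {p : ℕ} [Fact p.Prime] {T : Sylow p G} {M : Subgroup G}
  {r : ℕ} {E : Fin r → Subgroup G} {F : Type} [Field F] [Fintype F] {n : ℕ} {R : Subgroup G}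

theorem normalizer_le_normalizer_centralizer (X : Subgroup G) :
    normalizer (X : Set G) ≤ normalizer ((centralizer (X : Set G) : Subgroup G) : Set G) := by
  intro g hg
  refine H74.mem_normalizer_of_conj_mem fun c hc => mem_centralizer_iff.2 fun x hx => ?_
  have h1 : g⁻¹ * x * g ∈ X := (mem_normalizer_iff''.1 hg x).1 hx
  calc x * (g * c * g⁻¹) = g * ((g⁻¹ * x * g) * c) * g⁻¹ := by group
    _ = g * (c * (g⁻¹ * x * g)) * g⁻¹ := by rw [mem_centralizer_iff.1 hc _ h1]
    _ = g * c * g⁻¹ * x := by group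

theorem ell_normal : (ell p (T : Subgroup G)).Normal := normalClosure_normal

theorem pResidualOf_le (R : Subgroup G) : Cfsg.pResidualOf p R ≤ R := map_subtype_le _

theorem pResidualOf_le_pResidual (R : Subgroup G) : Cfsg.pResidualOf p R ≤ Cfsg.pResidual p G :=
  (H22.map_subtype_pResidual_le R).trans inf_le_left

theorem RankSub.block_le_ell (hR : RankSub T F n R) : Cfsg.pResidualOf p R ≤ ell p (T : Subgroup G) :=
  (pResidualOf_le R).trans hR.le_L

/-- `O^p(G)` is generated by the `T`-conjugates of the block. -/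
theorem RankBlock.residual_le (hB : RankBlock T F n R) :
    Cfsg.pResidual p G ≤
      ⨆ t : ↥(T : Subgroup G), (Cfsg.pResidualOf p R).map (MulAut.conj (t : G)).toMonoidHom := by
  set E₀ := Cfsg.pResidualOf p R
  set X := ⨆ t : ↥(T : Subgroup G), E₀.map (MulAut.conj (t : G)).toMonoidHom
  have hTX : (T : Subgroup G) ≤ normalizer (X : Set G) := fun t ht => by
    refine H74.mem_normalizer_of_conj_mem fun x hx => ?_
    have hle : X.map (MulAut.conj t).toMonoidHom ≤ X := by
      rw [Subgroup.map_iSup]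
      refine iSup_le fun s => le_iSup_of_le ⟨t * s, mul_mem ht s.2⟩ (le_of_eq ?_)
      rw [Subgroup.map_map]
      congr 1
      ext y
      simp [mul_assoc]
    exact hle (mem_map_of_mem _ hx)
  haveI : X.Normal := normalizer_eq_top_iff.1 (top_le_iff.1 (hB.top.ge.trans (sup_le le_normalizer hTX)))
  refine H22.pResidual_le_of_isPGroup_quotient X ?_
  have htop : (T : Subgroup G).map (QuotientGroup.mk' X) = ⊤ := by
    rw [← map_top_of_surjective _ (QuotientGroup.mk'_surjective X), ← hB.top, Subgroup.map_sup,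
      QuotientGroup.map_mk'_self, bot_sup_eq]
  exact ((T.2.map (QuotientGroup.mk' X)).to_le htop.ge).of_equiv Subgroup.topEquiv

/-- `O^p(G) ≤ L`. -/
theorem RankSub.residual_le_ell (hR : RankSub T F n R) (hB : RankBlock T F n R) :
    Cfsg.pResidual p G ≤ ell p (T : Subgroup G) :=
  hB.residual_le.trans (iSup_le fun t => by
    haveI := ell_normal (T := T)
    rintro _ ⟨e, he, rfl⟩
    exact Normal.conj_mem inferInstance e (hR.block_le_ell he) _)

/-- A commutator condition for the block passes to `O^p(G)`. -/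
theorem RankBlock.comm_residual_le (hB : RankBlock T F n R) {D N : Subgroup G} [D.Normal] [N.Normal]
    (h : ⁅D, Cfsg.pResidualOf p R⁆ ≤ N) : ⁅D, Cfsg.pResidual p G⁆ ≤ N := by
  refine (commutator_mono le_rfl hB.residual_le).trans (commutator_le_of_cover fun t => ?_)
  have hmap : ∀ X : Subgroup G, X.Normal → X.map (MulAut.conj (t : G)).toMonoidHom = X := fun X hX =>
    eq_of_le_of_card_ge (by rintro _ ⟨x, hx, rfl⟩; exact hX.conj_mem x hx _)
      (card_map_of_injective (MulAut.conj (t : G)).injective).ge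
  rw [← hmap D inferInstance, ← Subgroup.map_commutator, ← hmap N inferInstance]
  exact map_mono h

/-- In characteristic two `[P, O^p(G)] ≤ W`. -/
theorem RankBlock.comm_pee_residual (hB : RankBlock T F n R) (h2 : p = 2) :
    ⁅pee p (T : Subgroup G), Cfsg.pResidual p G⁆ ≤ wee p (T : Subgroup G) := by
  haveI := pee_normal (T := T)
  haveI := wee_normal (T := T)
  exact hB.comm_residual_le (hB.two h2)

/-- The elements of order prime to `p` of `C_G(V)` centralise what they stabilise in steps. -/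
theorem coprime_centralizes {P N : Subgroup G} (hP : IsPGroup p P) [P.Normal] {c : G}
    (hc : (orderOf c).Coprime p) (hPN : ∀ u ∈ P, ⁅u, c⁆ ∈ N) (hNc : c ∈ centralizer (N : Set G)) :
    c ∈ centralizer (P : Set G) :=
  H72.coprime_mem_centralizer_of_series' hP
    (normalizer_eq_top_iff.2 (inferInstance : P.Normal) ▸ mem_top c) hc
    (fun u hu => by rw [← commutatorElement_inv]; exact inv_mem (hPN u hu)) hNc

/-- `C_G(V) = O_p(G)`. -/
theorem Ctx.cee_eq (hc : Ctx T M) (co : Core T E) (hR : RankSub T F n R) (hB : RankBlock T F n R) :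
    cee p G = Cfsg.pCore p G := by
  classical
  set B := Cfsg.baumannSubgroupOf p (T : Subgroup G) with hBdef
  set W := wee p (T : Subgroup G) with hWdef
  set P := pee p (T : Subgroup G) with hPdef
  set L := ell p (T : Subgroup G) with hLdef
  set E₀ := Cfsg.pResidualOf p R with hE₀
  set Q₀ := Cfsg.pCoreOf p E₀ with hQ₀
  set W₀ := Cfsg.omegaOneCenter p Q₀ with hW₀
  haveI := vee_normal (G := G) (p := p)
  haveI := cee_normal (G := G) (p := p)
  haveI := wee_normal (T := T)
  haveI := pee_normal (T := T)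
  haveI := ell_normal (T := T)
  haveI : P.Normal := pee_normal (T := T)
  haveI : W.Normal := wee_normal (T := T)
  haveI : L.Normal := ell_normal (T := T)
  have hblock := hB.block
  have hres : Cfsg.pResidualOf p E₀ = E₀ := hblock.1
  have hPp : IsPGroup p ↥P := (H35.isPGroup_pCore p G).to_le inf_le_left
  set Φ := (frattini ↥P).map P.subtype with hΦ
  haveI : Φ.Normal := frattini_map_normal
  have hΦP : Φ ≤ P := map_subtype_le _
  have hQ₀P : Q₀ ≤ P := hB.core_le
  have hΦ₀ : (frattini ↥Q₀).map Q₀.subtype ≤ Φ := frattini_map_mono hQ₀P hPp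
  have hΦc : Φ ≤ centralizer (E₀ : Set G) := commutator_eq_bot_iff_le_centralizer.1 hB.frat
  -- it suffices to kill the elements of order prime to `p`
  refine le_antisymm (Cfsg.Agent.H72.le_pCore inferInstance ?_) core_le_cee
  by_contra hnp
  obtain ⟨q, hq, hqd, hqp⟩ : ∃ q, q.Prime ∧ q ∣ Nat.card ↥(cee p G) ∧ q ≠ p := by
    by_contra hno
    push Not at hno
    exact hnp (IsPGroup.of_card (Nat.eq_prime_pow_of_unique_prime_dvd Nat.card_pos.ne'
      fun {d} hd hdd => hno d hd hdd))
  haveI : Fact q.Prime := ⟨hq⟩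
  obtain ⟨⟨c, hcC⟩, hcq⟩ := exists_prime_orderOf_dvd_card' q hqd
  rw [orderOf_mk] at hcq
  have hcop : (orderOf c).Coprime p := by
    rw [hcq]; exact (Nat.coprime_primes hq Fact.out).2 hqp
  have hcO : c ∈ Cfsg.pResidual p G := H22.mem_pResidual_of_coprime hcop
  have hcK : c ∈ L ⊓ cee p G := ⟨hR.residual_le_ell hB hcO, hcC⟩
  have hcW : c ∈ centralizer (W : Set G) := co.L_cent hcK
  have hfin : c ∈ centralizer (P : Set G) → False := fun hcP => by
    obtain ⟨i, hi⟩ := hPp ⟨c, co.P_cent hcP⟩
    have h1 : q ∣ p ^ i := hcq ▸ orderOf_dvd_of_pow_eq_one (congrArg Subtype.val hi)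
    exact hqp ((Nat.prime_dvd_prime_iff_eq hq Fact.out).1 (hq.dvd_of_dvd_pow h1))
  set K := L ⊓ cee p G with hK
  haveI : K.Normal := normal_inf_normal _ _
  have hPK : P ≤ K := le_inf (co.P_eq.ge.trans (inf_le_right.trans subset_normalClosure))
    ((inf_le_left : P ≤ Cfsg.pCore p G).trans core_le_cee)
  have hKW : K ≤ centralizer (W : Set G) := co.L_cent
  set D := ⁅P, K⁆ with hD
  haveI : D.Normal := commutator_normal _ _
  have hDP : D ≤ P := commutator_le_left _ _
  have hBR : B ≤ R := hR.B_le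
  have hEn : ∀ N : Subgroup G, N.Normal → E₀ ≤ normalizer (N : Set G) := fun N hN => le_normalizer_of_normal
  have hEW₀ : E₀ ≤ normalizer (W₀ : Set G) :=
    le_normalizer.trans (H51.normalizer_le_normalizer_omegaCore E₀)
  have hEQ₀ : E₀ ≤ normalizer (Q₀ : Set G) := by
    intro x hx
    rw [mem_normalizer_iff_map_conj_eq]
    exact (H72.pCoreOf_map_equiv (MulAut.conj x) p E₀).symm.trans
      (congrArg _ (mem_normalizer_iff_map_conj_eq.1 (le_normalizer hx)))
  by_cases hU : D ⊓ Q₀ ≤ W₀
  · -- `[D, O^p(G)] ≤ W`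
    have hDE : ⁅D, E₀⁆ ≤ W := by
      refine commutator_le_of_residual hres fun e he hecop => ?_
      have h1 : ⁅D, zpowers e⁆ ≤ W₀ := by
        refine le_trans ?_ hU
        refine le_inf (commutator_le_left _ _) ?_
        exact (commutator_mono hDP (zpowers_le.2 he)).trans hB.comm_P
      have hDp : IsPGroup p ↥D := hPp.to_le hDP
      rw [← H20.commutator_commutator_eq (le_normalizer_of_normal) ?_ (Or.inr ?_)]
      · exact (commutator_mono h1 (zpowers_le.2 he)).trans hB.omega
      · obtain ⟨i, hi⟩ := hDp.exists_card_eq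
        rw [hi, Nat.card_zpowers]
        exact hecop.pow_right i
      · haveI := hDp.isNilpotent; infer_instance
    have hDO := hB.comm_residual_le hDE
    have hcD : c ∈ centralizer (D : Set G) := coprime_centralizes (hPp.to_le hDP) hcop
      (fun u hu => hDO (commutator_mem_commutator hu hcO)) hcW
    exact hfin (coprime_centralizes hPp hcop (fun u hu => commutator_mem_commutator hu hcK) hcD)
  · -- the exceptional shape
    set U := (D ⊓ Q₀) ⊔ W₀
    have hW₀Q : W₀ ≤ Q₀ := H51.omega_le_core E₀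
    have hUn : E₀ ≤ normalizer (U : Set G) := by
      intro x hx
      refine H74.mem_normalizer_of_conj_mem fun y hy => ?_
      have hle : U ≤ U.comap (MulAut.conj x).toMonoidHom := sup_le
        (fun z hz => mem_sup_left ⟨Normal.conj_mem inferInstance z hz.1 x,
          (mem_normalizer_iff.1 (hEQ₀ hx) z).1 hz.2⟩)
        (fun z hz => mem_sup_right ((mem_normalizer_iff.1 (hEW₀ hx) z).1 hz))
      exact hle hy
    have hUQ : U = Q₀ := by
      rcases H51.block_top_irreducible hblock U le_sup_right (sup_le inf_le_right hW₀Q) hUn with h1 | h1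
      · exact absurd (le_sup_left.trans h1.le) hU
      · exact h1
    have hne : ¬ Q₀ = W₀ := fun e => hU (inf_le_right.trans e.le)
    obtain ⟨F', iF, iF', n', hcard, hiso, hsecW, hexc⟩ :
        ∃ (F' : Type) (_ : Field F') (_ : Fintype F') (n' : ℕ), Fintype.card F' = p ^ n' ∧
          Nonempty (↥E₀ ⧸ Cfsg.pCore p ↥E₀ ≃* ↥(commutator (Matrix.SpecialLinearGroup (Fin 2) F'))) ∧
          Cfsg.ActsAsSL2OnSection F' (commutator (Matrix.SpecialLinearGroup (Fin 2) F')) E₀ W₀
            (W₀ ⊓ centralizer (E₀ : Set G)) ∧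
          (p = 3 ∧
            Cfsg.ActsAsSL2OnSection F' (commutator (Matrix.SpecialLinearGroup (Fin 2) F')) E₀ Q₀ W₀ ∧
            (frattini ↥Q₀).map Q₀.subtype = W₀ ⊓ centralizer (E₀ : Set G) ∧
            ∀ b : G, b ∈ B → b ∉ centralizer (W₀ : Set G) →
              ¬ ⁅⁅Q₀, zpowers b⁆, zpowers b⁆ ≤ E₀ ⊓ centralizer (E₀ : Set G)) := by
      rcases hblock.2.2.2.2 with ⟨F', i1, i2, n', h1, h2, h3, h4 | ⟨h5, h6, -, h8, -, -, h11⟩⟩ | ⟨-, m, -, -, h4⟩
      · exact absurd h4 hne
      · exact ⟨F', i1, i2, n', h1, h2, h3, h5, h6, h8, h11⟩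
      · exact absurd h4 hne
    obtain ⟨hp3, hsecQ, hfrat, hnq⟩ := hexc
    set Z := W₀ ⊓ centralizer (E₀ : Set G)
    have hZΦ : Z ≤ Φ := hfrat.ge.trans hΦ₀
    -- `W₀ ≤ W Φ`
    have hW₀W : W₀ ≤ W ⊔ Φ := by
      obtain ⟨hnc, hirr⟩ := H51.block_irreducible hblock
      have hW₀n : ⁅W₀, E₀⁆ ≤ W₀ := commutator_le.2 fun x hx e he => by
        rw [show ⁅x, e⁆ = x * (e * x⁻¹ * e⁻¹) by rw [commutatorElement_def]; group]
        exact mul_mem hx ((mem_normalizer_iff.1 (hEW₀ he) _).1 (inv_mem hx))
      rcases hirr (⁅W₀, E₀⁆ ⊔ Z) (sup_le hW₀n inf_le_left) le_sup_right (fun x hx => by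
          refine H74.mem_normalizer_of_conj_mem fun y hy => ?_
          have hle : ⁅W₀, E₀⁆ ⊔ Z ≤ (⁅W₀, E₀⁆ ⊔ Z).comap (MulAut.conj x).toMonoidHom := sup_le
            (fun z hz => mem_sup_left ((mem_normalizer_iff.1 (normalizer_commutator_ge_right W₀ E₀ hx) z).1 hz))
            (fun z hz => mem_sup_right
              ((mem_normalizer_iff.1 (H51.normalizer_le_normalizer_omegaCore_fixed E₀ (le_normalizer hx)) z).1 hz))
          exact hle hy) with h1 | h1
      · refine absurd (le_centralizer_iff.1 (H51.centralizes_of_residual hres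
          (hPp.to_le (hW₀Q.trans hQ₀P)) hEW₀ ?_)) hnc
        rw [commutator_eq_bot_iff_le_centralizer]
        exact le_sup_left.trans (h1.le.trans inf_le_right)
      · exact h1.ge.trans (sup_le_sup hB.omega hZΦ)
    -- a quadratic element of `B`
    have hBp : IsPGroup p ↥B := H51.baumann_isPGroup T
    have hBnW : B ≤ normalizer (W₀ : Set G) :=
      (H51.baumann_le_normalizer_of_commutator_eq hblock.2.1).trans (H51.normalizer_le_normalizer_omegaCore E₀)
    have hBnQ : B ≤ normalizer (Q₀ : Set G) := by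
      intro x hx
      rw [mem_normalizer_iff_map_conj_eq]
      exact (H72.pCoreOf_map_equiv (MulAut.conj x) p E₀).symm.trans
        (congrArg _ (mem_normalizer_iff_map_conj_eq.1
          (H51.baumann_le_normalizer_of_commutator_eq hblock.2.1 hx)))
    have hBnZ : B ≤ normalizer (Z : Set G) :=
      (H51.baumann_le_normalizer_of_commutator_eq hblock.2.1).trans (H51.normalizer_le_normalizer_omegaCore_fixed E₀)
    have hQW : Q₀ ≤ normalizer (W₀ : Set G) :=
      (H51.core_le_centralizer_omega E₀).trans (centralizer_le_normalizer _)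
    have hW₀Z : W₀ ≤ normalizer (Z : Set G) := fun x hx => H74.mem_normalizer_of_conj_mem fun y hy => by
      haveI := (H51.omegaOneCenter_isElementaryAbelian (p := p) Q₀).1
      rwa [show x * y = y * x from setLike_mul_comm hx hy.1, mul_inv_cancel_right]
    obtain ⟨b, hbB, hbW, hquadQ, hquadW⟩ : ∃ b ∈ B, b ∉ centralizer (W₀ : Set G) ∧
        (∀ x ∈ Q₀, ∀ a ∈ zpowers b, ∀ a' ∈ zpowers b, ⁅⁅x, a⁆, a'⁆ ∈ W₀) ∧
        ∀ x ∈ W₀, ∀ a ∈ zpowers b, ∀ a' ∈ zpowers b, ⁅⁅x, a⁆, a'⁆ ∈ Z := by
      haveI : CharP F' p := H72.charP_of_card hcard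
      have hn' : 1 ≤ n' := by
        rcases Nat.eq_zero_or_pos n' with h0 | h0
        · rw [h0, pow_zero] at hcard
          exact absurd hcard (Fintype.one_lt_card (α := F')).ne'
        · exact h0
      by_cases hn1 : n' = 1
      · subst hn1
        obtain ⟨b, hb, hbW⟩ : ∃ b ∈ B, b ∉ centralizer (W₀ : Set G) := by
          by_contra hno
          push Not at hno
          have hE : E₀ ≤ centralizer (W₀ : Set G) := by
            refine (le_of_eq hblock.2.1.symm).trans (commutator_le.2 fun e he b hb => ?_)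
            rw [commutatorElement_def]
            have hen : e ∈ normalizer ((centralizer (W₀ : Set G) : Subgroup G) : Set G) :=
              normalizer_le_normalizer_centralizer W₀ (hEW₀ he)
            exact mul_mem ((mem_normalizer_iff.1 hen b).1 (hno b hb)) (inv_mem (hno b hb))
          exact (H51.block_irreducible hblock).1 (le_centralizer_iff.1 hE)
        obtain ⟨i, hi⟩ := hBp ⟨b, hb⟩
        have hbk : b ^ p ^ i = 1 := congrArg Subtype.val hi
        have hidx : ∀ (U U₀ : Subgroup G),
            Cfsg.ActsAsSL2OnSection F' (commutator (Matrix.SpecialLinearGroup (Fin 2) F')) E₀ U U₀ →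
            U₀.relIndex U = p ^ 2 := by
          rintro U U₀ ⟨-, -, ρ, ψ, -, hs, hk, -⟩
          rw [H51.relIndex_of_section ψ hk, MonoidHom.range_eq_top.2 hs, card_top,
            Nat.card_congr Multiplicative.toAdd, Nat.card_fun, Nat.card_fin, Nat.card_eq_fintype_card, hcard, pow_one]
        exact ⟨b, hb, hbW,
          quad_of_small (hPp.to_le hQ₀P) hW₀Q hbk (hBnQ hb) (hBnW hb) hQW (hidx _ _ hsecQ),
          quad_of_small (hPp.to_le (hW₀Q.trans hQ₀P)) inf_le_left hbk (hBnW hb) (hBnZ hb) hW₀Z (hidx _ _ hsecW)⟩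
      · -- `SL₂` is perfect: take the element in `E₀`
        obtain ⟨-, -, ρ, ψ, hρ, hψs, hψk, hρact⟩ := hsecW
        have hbig : ∃ x : F', x ≠ 0 ∧ x ^ 2 ≠ 1 := by
          classical
          by_contra hno
          push Not at hno
          have hsub : (Finset.univ : Finset F') ⊆ {0, 1, -1} := fun x _ => by
            by_cases hx0 : x = 0
            · simp [hx0]
            · rcases sq_eq_one_iff.1 (hno x hx0) with h | h <;> simp [h]
          have h3 : Fintype.card F' ≤ 3 := by
            rw [← Finset.card_univ]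
            exact (Finset.card_le_card hsub).trans Finset.card_le_three
          rw [hcard] at h3
          have h9 : p ^ 2 ≤ p ^ n' := Nat.pow_le_pow_right (Fact.out : p.Prime).pos (by omega)
          subst hp3
          omega
        have hcomm := H1.commutator_SL_eq_top (ι := Fin 2) (F := F') (Or.inr hbig)
        rw [hcomm] at hρ
        have hρs := MonoidHom.range_eq_top.1 hρ
        let u : Matrix.SpecialLinearGroup (Fin 2) F' := ⟨!![1, 1; 0, 1], by simp [Matrix.det_fin_two]⟩
        obtain ⟨e, he⟩ := hρs u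
        obtain ⟨i, m, hm, hord⟩ := Nat.exists_eq_pow_mul_and_not_dvd (orderOf_pos e).ne' p (Fact.out : p.Prime).ne_one
        have hem : (e ^ m) ^ p ^ i = 1 := by rw [← pow_mul, mul_comm, ← hord, pow_orderOf_eq_one]
        have hum : ρ (e ^ m) ≠ 1 := by
          rw [map_pow, he]
          intro h1
          have hu : ∀ j : ℕ, ((u ^ j : Matrix.SpecialLinearGroup (Fin 2) F') : Matrix (Fin 2) (Fin 2) F') 0 1 = j := by
            intro j
            have : ((u ^ j : Matrix.SpecialLinearGroup (Fin 2) F') : Matrix (Fin 2) (Fin 2) F') =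
                !![1, (j : F'); 0, 1] := by
              induction j with
              | zero => ext a b; fin_cases a <;> fin_cases b <;> simp
              | succ j ih =>
                rw [pow_succ, Matrix.SpecialLinearGroup.coe_mul, ih]
                ext a b; fin_cases a <;> fin_cases b <;> simp [u, Matrix.mul_apply, Fin.sum_univ_two, add_comm]
            rw [this]; rfl
          have h2 := hu m
          rw [h1] at h2
          simp at h2
          exact hm ((CharP.cast_eq_zero_iff F' p m).1 h2.symm)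
        -- move it into `B`
        obtain ⟨S, K', hS, -⟩ := hR.setup
        have hER : E₀ ≤ R := pResidualOf_le R
        have hp1 : IsPGroup p ↥(zpowers (⟨(e ^ m : ↥E₀), hER (e ^ m).2⟩ : ↥R)) := by
          refine IsPGroup.of_card (n := Nat.log p (orderOf (⟨(e ^ m : ↥E₀), hER (e ^ m).2⟩ : ↥R))) ?_
          have hd : orderOf (⟨(e ^ m : ↥E₀), hER (e ^ m).2⟩ : ↥R) ∣ p ^ i := orderOf_dvd_of_pow_eq_one
            (Subtype.ext (by rw [SubgroupClass.coe_pow, coe_one]; exact congrArg Subtype.val hem))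
          obtain ⟨j, -, hj⟩ := (Nat.dvd_prime_pow (Fact.out : p.Prime)).1 hd
          rw [Nat.card_zpowers, hj, Nat.log_pow (Fact.out : p.Prime).one_lt]
        obtain ⟨S', hS'⟩ := hp1.exists_le_sylow
        obtain ⟨g, hg⟩ := MulAction.exists_smul_eq ↥R S' S
        set b := (g : G) * ((e ^ m : ↥E₀) : G) * (g : G)⁻¹
        have hbB : b ∈ B := by
          have h1 : MulAut.conj g (⟨(e ^ m : ↥E₀), hER (e ^ m).2⟩ : ↥R) ∈ (S : Subgroup ↥R) := by
            rw [← hg]
            exact mem_map_of_mem _ (hS' (mem_zpowers _))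
          rw [hS] at h1
          exact h1
        have hgE : (g : G) ∈ normalizer (E₀ : Set G) :=
          (le_of_eq hB.sup.symm).trans (sup_le le_normalizer
            (H51.baumann_le_normalizer_of_commutator_eq hblock.2.1)) g.2
        have hbE : b ∈ E₀ := (mem_normalizer_iff.1 hgE _).1 (e ^ m).2
        have hbk : b ^ p ^ i = 1 := by
          rw [show b = MulAut.conj (g : G) ((e ^ m : ↥E₀) : G) from rfl, ← map_pow, ← SubgroupClass.coe_pow, hem,
            coe_one, map_one]
        have hbW : b ∉ centralizer (W₀ : Set G) := by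
          intro hb
          have hgW := H51.normalizer_le_normalizer_omegaCore (p := p) E₀ hgE
          have h1 : ((e ^ m : ↥E₀) : G) ∈ centralizer (W₀ : Set G) :=
            (mem_normalizer_iff.1 (normalizer_le_normalizer_centralizer W₀ hgW) _).2 hb
          refine hum (Subtype.ext (Matrix.ext_of_mulVec_single fun j => ?_))
          obtain ⟨x, hx⟩ := hψs (Multiplicative.ofAdd (Pi.single j 1))
          obtain ⟨w, hw, hw'⟩ := hρact (e ^ m) x
          rw [show w = x from Subtype.ext (by rw [hw, ← mem_centralizer_iff.1 h1 x x.2, mul_inv_cancel_right]),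
            hx, toAdd_ofAdd] at hw'
          rw [← hw', Matrix.SpecialLinearGroup.coe_one, Matrix.one_mulVec]
        exact ⟨b, hbB, hbW, quad_of_mem hcard hsecQ hbE hbk,
          quad_of_mem hcard ⟨hEW₀, inf_le_left, ρ, ψ, MonoidHom.range_eq_top.2 hρs, hψs, hψk, hρact⟩ hbE hbk⟩
    -- `D ∩ W Φ ≤ Φ`
    have hDΦ : D ⊓ (W ⊔ Φ) ≤ Φ := by
      set π := QuotientGroup.mk' Φ
      have hπ : Function.Surjective π := QuotientGroup.mk'_surjective Φ
      set Pb := P.map π
      set Kb := K.map π
      have hPb : IsMulCommutative ↥Pb := le_centralizer_iff_isMulCommutative.1 (by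
        rintro _ ⟨a, ha, rfl⟩
        refine mem_centralizer_iff.2 ?_
        rintro _ ⟨a', ha', rfl⟩
        rw [← commutatorElement_eq_one_iff_mul_comm, ← map_commutatorElement, ← MonoidHom.mem_ker,
          QuotientGroup.ker_mk']
        exact commutator_le_frattini_map hPp (commutator_mem_commutator ha' ha))
      haveI : Pb.Normal := Normal.map inferInstance π hπ
      haveI : (Pb.subgroupOf Kb).Normal := Normal.subgroupOf inferInstance Kb
      have hPbK : Pb ≤ Kb := map_mono hPK
      have hidx : ¬ p ∣ (Pb.subgroupOf Kb).index := by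
        show ¬ p ∣ Pb.relIndex Kb
        rw [relIndex_map_map, QuotientGroup.ker_mk', sup_eq_left.2 hΦP, sup_eq_left.2 (hΦP.trans hPK)]
        have hTK : (T : Subgroup G) ⊓ K = P := by
          refine le_antisymm ?_ (le_inf ((inf_le_left : P ≤ Cfsg.pCore p G).trans
            (Cfsg.Agent.H72.pCore_le_sylow T)) hPK)
          exact fun x hx => co.L_core.le ⟨hx.2.1, hc.inf_cee.le ⟨hx.1, hx.2.2⟩⟩
        rw [← hTK, inf_relIndex_right]
        exact fun hd => T.not_dvd_index (hd.trans (H32.relIndex_dvd_index' _ _))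
      have hPbp : IsPGroup p ↥(Pb.subgroupOf Kb) := (hPp.map π).comap_subtype
      obtain ⟨j, hj⟩ := hPbp.exists_card_eq
      obtain ⟨A', hA'⟩ := exists_right_complement'_of_coprime (N := Pb.subgroupOf Kb) (by
        rw [hj]; exact (((Fact.out : p.Prime).coprime_iff_not_dvd).2 hidx).pow_left j)
      set A := A'.map Kb.subtype
      have hAK : A ≤ Kb := map_subtype_le _
      have hAn : A ≤ normalizer (Pb : Set (G ⧸ Φ)) := le_normalizer_of_normal
      have hcopA : (Nat.card ↥A).Coprime (Nat.card ↥Pb) := by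
        rw [card_map_of_injective (subtype_injective _), ← hA'.symm.index_eq_card,
          ← Nat.card_congr (subgroupOfEquivOfLe hPbK).toEquiv, hj]
        exact ((((Fact.out : p.Prime).coprime_iff_not_dvd).2 hidx).pow_left j).symm
      haveI : (Kb).Normal := Normal.map inferInstance π hπ
      have hKA : Kb ≤ Pb ⊔ A := by
        intro x hx
        obtain ⟨⟨a, b⟩, hab⟩ := hA'.2 (⟨x, hx⟩ : ↥Kb)
        have := congrArg (fun z : ↥Kb => (z : G ⧸ Φ)) hab
        simp only [Subgroup.coe_mul] at this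
        rw [← this]
        exact mul_mem (mem_sup_left a.2) (mem_sup_right ⟨b, b.2, rfl⟩)
      have hDA : D.map π ≤ ⁅Pb, A⁆ := by
        rw [Subgroup.map_commutator]
        refine commutator_le.2 fun x hx k hk => ?_
        have hk' := hKA hk
        rw [← SetLike.mem_coe, coe_mul_of_right_le_normalizer_left _ _ hAn] at hk'
        obtain ⟨y, hy, a, ha, rfl⟩ := hk'
        have hxy : x * y = y * x := setLike_mul_comm hx hy
        rw [show ⁅x, y * a⁆ = y * ⁅x, a⁆ * y⁻¹ from by
          simp only [commutatorElement_def]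
          calc x * (y * a) * x⁻¹ * (y * a)⁻¹ = (x * y) * a * x⁻¹ * a⁻¹ * y⁻¹ := by group
            _ = _ := by rw [hxy]; group]
        exact (mem_normalizer_iff.1 (normalizer_commutator_ge_left Pb A hy) _).1 (commutator_mem_commutator hx ha)
      intro x hx
      have hxP : x ∈ P := hDP hx.1
      obtain ⟨w, hw, φ, hφ, rfl⟩ : ∃ w ∈ W, ∃ φ ∈ Φ, w * φ = x := by
        have h1 : x ∈ W ⊔ Φ := hx.2
        rw [← SetLike.mem_coe, coe_mul_of_left_le_normalizer_right _ _ le_normalizer_of_normal] at h1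
        exact h1
      have hπx : π (w * φ) = π w := by
        rw [map_mul, show π φ = 1 from (QuotientGroup.eq_one_iff φ).2 hφ, mul_one]
      have hmem : π w ∈ (Pb ⊓ centralizer (A : Set (G ⧸ Φ))) ⊓ ⁅Pb, A⁆ := by
        refine ⟨⟨mem_map_of_mem π (co.W_le hw), ?_⟩, hπx ▸ hDA (mem_map_of_mem π hx.1)⟩
        refine mem_centralizer_iff.2 fun a ha => ?_
        obtain ⟨k, hk, rfl⟩ := hAK ha
        rw [← map_mul, ← map_mul, mem_centralizer_iff.1 (hKW hk) w hw]
      rw [H20.centralizer_inf_commutator_eq_bot hAn hcopA, mem_bot] at hmem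
      exact mul_mem ((QuotientGroup.eq_one_iff w).1 hmem) hφ
    -- contradiction with the exceptional clause
    refine hnq b hbB hbW ?_
    have hbN : ∀ {X : Subgroup G}, b ∈ normalizer (X : Set G) → ∀ a ∈ zpowers b, a ∈ normalizer (X : Set G) :=
      fun hX a ha => zpowers_le.2 hX ha
    have hWc : W₀ ≤ centralizer (Q₀ : Set G) := le_centralizer_iff.1 (H51.core_le_centralizer_omega E₀)
    set W₁ := ⁅W₀, zpowers b⁆
    have hW₁W : W₁ ≤ W₀ := commutator_le.2 fun x hx a ha => by
      rw [show ⁅x, a⁆ = x * (a * x⁻¹ * a⁻¹) by rw [commutatorElement_def]; group]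
      exact mul_mem hx ((mem_normalizer_iff.1 (hbN (hBnW hbB) a ha) _).1 (inv_mem hx))
    have hQ1 : ∀ q ∈ Q₀, ∀ a ∈ zpowers b, ∃ d ∈ D ⊓ Q₀, ∃ w ∈ W₁, ⁅q, a⁆ = w * d := by
      intro q hq a ha
      have hq' : q ∈ U := hUQ.ge hq
      rw [← SetLike.mem_coe, coe_mul_of_left_le_normalizer_right _ _ (inf_le_right.trans hQW)] at hq'
      obtain ⟨d, hd, w, hw, rfl⟩ := hq'
      refine ⟨⁅d, a⁆, ⟨?_, ?_⟩, ⁅w, a⁆, commutator_mem_commutator hw ha, ?_⟩
      · rw [show ⁅d, a⁆ = d * (a * d⁻¹ * a⁻¹) by rw [commutatorElement_def]; group]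
        exact mul_mem hd.1 (Normal.conj_mem inferInstance _ (inv_mem hd.1) a)
      · rw [show ⁅d, a⁆ = d * (a * d⁻¹ * a⁻¹) by rw [commutatorElement_def]; group]
        exact mul_mem hd.2 ((mem_normalizer_iff.1 (hbN (hBnQ hbB) a ha) _).1 (inv_mem hd.2))
      · have hc1 : d * ⁅w, a⁆ * d⁻¹ = ⁅w, a⁆ := by
          rw [mem_centralizer_iff.1 (hWc (hW₁W (commutator_mem_commutator hw ha))) d hd.2, mul_inv_cancel_right]
        calc ⁅d * w, a⁆ = (d * ⁅w, a⁆ * d⁻¹) * ⁅d, a⁆ := by simp only [commutatorElement_def]; group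
          _ = _ := by rw [hc1]
    have hQp : ∀ q ∈ ⁅Q₀, zpowers b⁆, ∃ d ∈ D ⊓ Q₀, ∃ w ∈ W₁, q = w * d := by
      intro q hq
      have hle : ⁅Q₀, zpowers b⁆ ≤ W₁ ⊔ (D ⊓ Q₀) := commutator_le.2 fun x hx a ha => by
        obtain ⟨d, hd, w, hw, e⟩ := hQ1 x hx a ha
        rw [e]
        exact mul_mem (mem_sup_left hw) (mem_sup_right hd)
      have h1 := hle hq
      rw [← SetLike.mem_coe, coe_mul_of_left_le_normalizer_right _ _ ?_] at h1
      · obtain ⟨w, hw, d, hd, rfl⟩ := h1
        exact ⟨d, hd, w, hw, rfl⟩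
      · intro w hw
        refine H74.mem_normalizer_of_conj_mem fun d hd => ?_
        rwa [← mem_centralizer_iff.1 (hWc (hW₁W hw)) d hd.2, mul_inv_cancel_right]
    refine commutator_le.2 fun q hq a ha => ?_
    obtain ⟨d, hd, w, hw, rfl⟩ := hQp q hq
    have hZE : Z ≤ E₀ ⊓ centralizer (E₀ : Set G) :=
      le_inf (inf_le_left.trans (hW₀Q.trans (map_subtype_le _))) inf_le_right
    have hqa : ⁅w * d, a⁆ ∈ W₀ := by
      have hle : ⁅⁅Q₀, zpowers b⁆, zpowers b⁆ ≤ W₀ := by
        refine commutator_le.2 fun x hx a' ha' => ?_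
        have hsub : ⁅Q₀, zpowers b⁆ ≤ ((centralizer (((zpowers b).subgroupOf (normalizer (W₀ : Set G))).map
            (QuotientGroup.mk' (W₀.subgroupOf (normalizer (W₀ : Set G)))) : Set _)).comap
              (QuotientGroup.mk' (W₀.subgroupOf (normalizer (W₀ : Set G))))).map
                (normalizer (W₀ : Set G)).subtype := by
          refine commutator_le.2 fun x hx c hc' => ?_
          have hcN := hbN (hBnW hbB) c hc'
          refine ⟨⁅(⟨x, hQW hx⟩ : ↥(normalizer (W₀ : Set G))), ⟨c, hcN⟩⁆, ?_, rfl⟩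
          rw [SetLike.mem_coe, mem_comap, mem_centralizer_iff]
          rintro _ ⟨y, hy, rfl⟩
          symm
          rw [← commutatorElement_eq_one_iff_mul_comm, ← map_commutatorElement, ← MonoidHom.mem_ker,
            QuotientGroup.ker_mk']
          exact hquadQ x hx c hc' y hy
        obtain ⟨y, hy, hyx⟩ := hsub hx
        subst hyx
        have hy' := mem_comap.1 (SetLike.mem_coe.1 hy)
        have ha'N := hbN (hBnW hbB) a' ha'
        have h2 := mem_centralizer_iff.1 hy' _ (mem_map_of_mem _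
          (show (⟨a', ha'N⟩ : ↥(normalizer (W₀ : Set G))) ∈ (zpowers b).subgroupOf _ from ha'))
        symm at h2
        rw [← commutatorElement_eq_one_iff_mul_comm, ← map_commutatorElement, ← MonoidHom.mem_ker,
          QuotientGroup.ker_mk'] at h2
        exact h2
      exact hle (commutator_mem_commutator hq ha)
    have hsplit : ⁅w * d, a⁆ = w * ⁅d, a⁆ * w⁻¹ * ⁅w, a⁆ := by simp only [commutatorElement_def]; group
    have hw2 : ⁅w, a⁆ ∈ Z := by
      have hle : W₁ ≤ ((centralizer (((zpowers b).subgroupOf (normalizer (Z : Set G))).map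
          (QuotientGroup.mk' (Z.subgroupOf (normalizer (Z : Set G)))) : Set _)).comap
            (QuotientGroup.mk' (Z.subgroupOf (normalizer (Z : Set G))))).map
              (normalizer (Z : Set G)).subtype := by
        refine commutator_le.2 fun x hx c hc' => ?_
        have hcN := hbN (hBnZ hbB) c hc'
        refine ⟨⁅(⟨x, hW₀Z hx⟩ : ↥(normalizer (Z : Set G))), ⟨c, hcN⟩⁆, ?_, rfl⟩
        rw [SetLike.mem_coe, mem_comap, mem_centralizer_iff]
        rintro _ ⟨y, hy, rfl⟩
        symm
        rw [← commutatorElement_eq_one_iff_mul_comm, ← map_commutatorElement, ← MonoidHom.mem_ker,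
          QuotientGroup.ker_mk']
        exact hquadW x hx c hc' y hy
      obtain ⟨y, hy, hyw⟩ := hle hw
      subst hyw
      have hy' := mem_comap.1 (SetLike.mem_coe.1 hy)
      have haN := hbN (hBnZ hbB) a ha
      have h2 := mem_centralizer_iff.1 hy' _ (mem_map_of_mem _
        (show (⟨a, haN⟩ : ↥(normalizer (Z : Set G))) ∈ (zpowers b).subgroupOf _ from ha))
      symm at h2
      rw [← commutatorElement_eq_one_iff_mul_comm, ← map_commutatorElement, ← MonoidHom.mem_ker,
        QuotientGroup.ker_mk'] at h2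
      exact h2
    have hdQ : ⁅d, a⁆ ∈ Q₀ := by
      rw [show ⁅d, a⁆ = d * (a * d⁻¹ * a⁻¹) by rw [commutatorElement_def]; group]
      exact mul_mem hd.2 ((mem_normalizer_iff.1 (hbN (hBnQ hbB) a ha) _).1 (inv_mem hd.2))
    have hconj : w * ⁅d, a⁆ * w⁻¹ = ⁅d, a⁆ := by
      rw [← mem_centralizer_iff.1 (hWc (hW₁W hw)) _ hdQ, mul_inv_cancel_right]
    have hdD : ⁅d, a⁆ ∈ D := by
      rw [show ⁅d, a⁆ = d * (a * d⁻¹ * a⁻¹) by rw [commutatorElement_def]; group]
      exact mul_mem hd.1 (Normal.conj_mem inferInstance _ (inv_mem hd.1) a)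
    have hdW : ⁅d, a⁆ ∈ W₀ := by
      have h1 := mul_mem hqa (W₀.inv_mem hw2.1)
      rwa [hsplit, hconj, mul_inv_cancel_right] at h1
    have hdΦ : ⁅d, a⁆ ∈ Φ := hDΦ ⟨hdD, hW₀W hdW⟩
    rw [hsplit, hconj]
    exact mul_mem (hZE ⟨hdW, hΦc hdΦ⟩) (hZE hw2)

end Cfsg.Agent.H34.Push
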