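import Cfsg.Agent.H34.Push.Core
import Cfsg.Agent.H24.PGroupBasic
import Cfsg.Agent.H51.BlockStructure
import Mathlib

/-!
Tools for showing `C_G(V) = O_p(G)`: Frattini subgroups, spreading a commutator condition, quadratic action
of `p`-elements on two-dimensional sections.
-/

set_option autoImplicit false
set_option linter.style.haveILetI false
set_option linter.unusedSectionVars false

open scoped commutatorElement

namespace Cfsg.Agent.H34.Push

open Subgroup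

universe u

variable {G : Type u} [Group G] [Finite G] {p : ℕ} [Fact p.Prime]

/-- Frattini subgroups of `p`-groups grow. -/
theorem frattini_map_mono {H K : Subgroup G} (hHK : H ≤ K) (hK : IsPGroup p K) :
    (frattini ↥H).map H.subtype ≤ (frattini ↥K).map K.subtype := by
  rw [map_le_iff_le_comap]
  refine H24.frattini_le_of (p := p) _ ?_ fun x => ?_
  · rw [_root_.commutator_def]
    refine commutator_le.2 fun a _ b _ => ?_
    exact ⟨⁅(⟨a, hHK a.2⟩ : ↥K), ⟨b, hHK b.2⟩⁆,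
      H24.commutator_le_frattini hK (commutator_mem_commutator (mem_top _) (mem_top _)), rfl⟩
  · exact ⟨(⟨x, hHK x.2⟩ : ↥K) ^ p, H24.pow_mem_frattini hK _, rfl⟩

/-- Commutators and powers of a `p`-group lie in its Frattini subgroup. -/
theorem commutator_le_frattini_map {K : Subgroup G} (hK : IsPGroup p K) :
    ⁅K, K⁆ ≤ (frattini ↥K).map K.subtype := by
  refine commutator_le.2 fun a ha b hb => ?_
  exact ⟨⁅(⟨a, ha⟩ : ↥K), ⟨b, hb⟩⁆,
    H24.commutator_le_frattini hK (commutator_mem_commutator (mem_top _) (mem_top _)), rfl⟩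

theorem frattini_map_normal {K : Subgroup G} [K.Normal] : ((frattini ↥K).map K.subtype).Normal :=
  ConjAct.normal_of_characteristic_of_normal

/-- Commuting into a normal subgroup spreads over joins. -/
theorem commutator_le_of_cover {P N : Subgroup G} [N.Normal] {ι : Sort*} {X : ι → Subgroup G}
    (h : ∀ i, ⁅P, X i⁆ ≤ N) : ⁅P, ⨆ i, X i⁆ ≤ N := by
  have hle : (⨆ i, X i) ≤ (centralizer ((P.map (QuotientGroup.mk' N) : Subgroup (G ⧸ N)) : Set (G ⧸ N))).comap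
      (QuotientGroup.mk' N) := iSup_le fun i x hx => by
    rw [mem_comap, mem_centralizer_iff]
    rintro _ ⟨a, ha, rfl⟩
    rw [← commutatorElement_eq_one_iff_mul_comm, ← map_commutatorElement, ← MonoidHom.mem_ker,
      QuotientGroup.ker_mk']
    exact h i (commutator_mem_commutator ha hx)
  refine commutator_le.2 fun a ha x hx => ?_
  rw [← QuotientGroup.ker_mk' N, MonoidHom.mem_ker, map_commutatorElement, commutatorElement_eq_one_iff_mul_comm]
  exact mem_centralizer_iff.1 (hle hx) _ (mem_map_of_mem _ ha)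

/-- A group generated by elements of order prime to `p` commutes into `N` as soon as those elements do. -/
theorem commutator_le_of_residual {P N E : Subgroup G} [N.Normal] (hE : Cfsg.pResidualOf p E = E)
    (h : ∀ e ∈ E, (orderOf e).Coprime p → ⁅P, zpowers e⁆ ≤ N) : ⁅P, E⁆ ≤ N := by
  have hle : E ≤ ⨆ e : {e // e ∈ E ∧ (orderOf e).Coprime p}, zpowers (e : G) := by
    refine (H51.eq_closure_of_residual hE).le.trans ((closure_le _).2 fun e he => ?_)
    exact mem_iSup_of_mem (⟨e, he⟩ : {e // e ∈ E ∧ (orderOf e).Coprime p}) (mem_zpowers e)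
  exact (commutator_mono le_rfl hle).trans (commutator_le_of_cover fun e => h e e.2.1 e.2.2)

/-- A unipotent two by two matrix is quadratic. -/
theorem unipotent_quadratic {F : Type*} [Field F] [CharP F p] {M : Matrix (Fin 2) (Fin 2) F} {k : ℕ}
    (hM : M ^ p ^ k = 1) : (M - 1) * (M - 1) = 0 := by
  set N := M - 1
  have hN : N ^ p ^ k = 0 := by
    rw [show N = M - 1 from rfl, sub_pow_char_pow_of_commute _ _ (Commute.one_right M), hM, one_pow, sub_self]
  have hk : 0 < p ^ k := pow_pos (Fact.out : p.Prime).pos k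
  have hdet : N.det = 0 := by
    have h1 := congrArg Matrix.det hN
    rw [Matrix.det_pow, Matrix.det_zero] at h1
    exact eq_zero_of_pow_eq_zero h1
  have hsq : N * N = (N 0 0 + N 1 1) • N := by
    rw [Matrix.det_fin_two] at hdet
    ext i j
    fin_cases i <;> fin_cases j <;> simp [Matrix.mul_apply, Fin.sum_univ_two] <;>
      first | linear_combination hdet | linear_combination -hdet | linear_combination (0 : F)
  have hpow : ∀ m : ℕ, N ^ (m + 1) = (N 0 0 + N 1 1) ^ m • N := by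
    intro m
    induction m with
    | zero => simp
    | succ m ih => rw [pow_succ, ih, Matrix.smul_mul, hsq, smul_smul, ← pow_succ]
  have h1 := hpow (p ^ k - 1)
  rw [Nat.sub_add_cancel hk, hN] at h1
  rcases smul_eq_zero.1 h1.symm with h2 | h2
  · rw [hsq, eq_zero_of_pow_eq_zero h2, zero_smul]
  · rw [h2, mul_zero]

/-- A `p`-element of `E` acts quadratically on a natural section of `E`. -/
theorem quad_of_mem {F : Type*} [Field F] [Fintype F] {n : ℕ} (hF : Fintype.card F = p ^ n)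
    {R : Subgroup (Matrix.SpecialLinearGroup (Fin 2) F)} {E U U₀ : Subgroup G}
    (h : Cfsg.ActsAsSL2OnSection F R E U U₀) {b : G} (hb : b ∈ E) {k : ℕ} (hbk : b ^ p ^ k = 1) :
    ∀ x ∈ U, ∀ a ∈ zpowers b, ∀ a' ∈ zpowers b, ⁅⁅x, a⁆, a'⁆ ∈ U₀ := by
  obtain ⟨hn, -, ρ, ψ, -, -, hk, hact⟩ := h
  haveI : CharP F p := H72.charP_of_card hF
  have key : ∀ (e : ↥E) (u : ↥U) (hw : ⁅(u : G), (e : G)⁆ ∈ U), Multiplicative.toAdd (ψ ⟨_, hw⟩) =
      Matrix.mulVec (1 - ((ρ e : Matrix.SpecialLinearGroup (Fin 2) F) : Matrix (Fin 2) (Fin 2) F))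
        (Multiplicative.toAdd (ψ u)) := by
    intro e u hw
    obtain ⟨w, hw1, hw2⟩ := hact e u
    have e1 : (⟨_, hw⟩ : ↥U) = u * w⁻¹ := Subtype.ext (show ⁅(u : G), (e : G)⁆ = (u : G) * (w : G)⁻¹ by
      rw [hw1, commutatorElement_def]; group)
    rw [e1, map_mul, map_inv, toAdd_mul, toAdd_inv, hw2, Matrix.sub_mulVec, Matrix.one_mulVec, sub_eq_add_neg]
  have hρ : ∀ a ∈ zpowers b, ∃ (e : ↥E) (i : ℕ), (e : G) = a ∧
      ((ρ e : Matrix.SpecialLinearGroup (Fin 2) F) : Matrix (Fin 2) (Fin 2) F) =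
        ((ρ ⟨b, hb⟩ : Matrix.SpecialLinearGroup (Fin 2) F) : Matrix (Fin 2) (Fin 2) F) ^ i := by
    intro a ha
    obtain ⟨i, rfl⟩ := mem_powers_iff_mem_zpowers.2 ha
    exact ⟨⟨b, hb⟩ ^ i, i, SubgroupClass.coe_pow _ _, by rw [map_pow, Matrix.SpecialLinearGroup.coe_pow]⟩
  set Mb : Matrix (Fin 2) (Fin 2) F := ((ρ ⟨b, hb⟩ : Matrix.SpecialLinearGroup (Fin 2) F) :
    Matrix (Fin 2) (Fin 2) F)
  have hMb : Mb ^ p ^ k = 1 := by
    rw [← Matrix.SpecialLinearGroup.coe_pow, ← map_pow, show (⟨b, hb⟩ : ↥E) ^ p ^ k = 1 from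
      Subtype.ext (by rw [SubgroupClass.coe_pow]; exact hbk), map_one, Matrix.SpecialLinearGroup.coe_one]
  have hquad := unipotent_quadratic hMb
  have hdvd : ∀ i : ℕ, ∃ c, Mb ^ i - 1 = (Mb - 1) * c ∧ Commute (Mb - 1) c := by
    intro i
    refine ⟨∑ j ∈ Finset.range i, Mb ^ j, (mul_geom_sum Mb i).symm, ?_⟩
    exact Commute.sum_right _ _ _ fun j _ => ((Commute.refl Mb).sub_left (Commute.one_left Mb)).pow_right j
  intro x hx a ha a' ha'
  obtain ⟨e, i, rfl, hei⟩ := hρ a ha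
  obtain ⟨e', i', rfl, hei'⟩ := hρ a' ha'
  have h1 : ⁅x, (e : G)⁆ ∈ U := by
    rw [show ⁅x, (e : G)⁆ = x * ((e : G) * x⁻¹ * (e : G)⁻¹) by rw [commutatorElement_def]; group]
    exact mul_mem hx ((mem_normalizer_iff.1 (hn e.2) _).1 (inv_mem hx))
  have h2 : ⁅⁅x, (e : G)⁆, (e' : G)⁆ ∈ U := by
    rw [show ⁅⁅x, (e : G)⁆, (e' : G)⁆ = ⁅x, (e : G)⁆ * ((e' : G) * ⁅x, (e : G)⁆⁻¹ * (e' : G)⁻¹) by
      simp only [commutatorElement_def]; group]
    exact mul_mem h1 ((mem_normalizer_iff.1 (hn e'.2) _).1 (inv_mem h1))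
  refine (hk ⟨_, h2⟩).1 (Multiplicative.toAdd.injective ?_)
  rw [key e' ⟨_, h1⟩ h2, key e ⟨x, hx⟩ h1, Matrix.mulVec_mulVec, hei, hei', toAdd_one]
  obtain ⟨c, hc, hcc⟩ := hdvd i
  obtain ⟨c', hc', hcc'⟩ := hdvd i'
  have e1 : (1 - Mb ^ i') * (1 - Mb ^ i) = 0 := by
    rw [← neg_sub (Mb ^ i'), ← neg_sub (Mb ^ i), neg_mul_neg, hc', hc, hcc'.eq, mul_assoc,
      ← mul_assoc (Mb - 1), hquad, zero_mul, mul_zero]
  rw [e1, Matrix.zero_mulVec]

/-- On a section of order `p²` every `p`-element acts quadratically. -/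
theorem quad_of_small {U U₀ : Subgroup G} (hU : IsPGroup p U) (h₀ : U₀ ≤ U) {b : G} {k : ℕ}
    (hbk : b ^ p ^ k = 1) (hbU : b ∈ normalizer (U : Set G)) (hb₀ : b ∈ normalizer (U₀ : Set G))
    (hU₀ : U ≤ normalizer (U₀ : Set G)) (hidx : U₀.relIndex U = p ^ 2) :
    ∀ x ∈ U, ∀ a ∈ zpowers b, ∀ a' ∈ zpowers b, ⁅⁅x, a⁆, a'⁆ ∈ U₀ := by
  set Nn := normalizer (U₀ : Set G)
  set P₀ := (U ⊔ zpowers b).subgroupOf Nn
  have hbp : IsPGroup p ↥(zpowers b) := by
    refine IsPGroup.of_card (n := (Nat.log p (orderOf b))) ?_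
    obtain ⟨i, -, hi⟩ := (Nat.dvd_prime_pow (Fact.out : p.Prime)).1 (orderOf_dvd_of_pow_eq_one hbk)
    rw [Nat.card_zpowers, hi, Nat.log_pow (Fact.out : p.Prime).one_lt]
  set π := QuotientGroup.mk' (U₀.subgroupOf Nn) with hπ
  set Ub := (U.subgroupOf Nn).map π
  set Bb := ((zpowers b).subgroupOf Nn).map π
  set P₁ := P₀.map π
  have hP₁ : IsPGroup p ↥P₁ :=
    ((hU.to_sup_of_normal_left' hbp (zpowers_le.2 hbU)).comap_subtype (K := Nn)).map π
  have hnil : Group.IsNilpotent ↥P₁ := hP₁.isNilpotent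
  have hUP : Ub ≤ P₁ := map_mono (comap_mono le_sup_left)
  have hBP : Bb ≤ P₁ := map_mono (comap_mono le_sup_right)
  have hn : Bb ≤ normalizer (Ub : Set (↥Nn ⧸ U₀.subgroupOf Nn)) := by
    rintro _ ⟨⟨a, haN⟩, ha, rfl⟩
    have haU : a ∈ normalizer (U : Set G) := zpowers_le.2 hbU ha
    refine H74.mem_normalizer_of_conj_mem ?_
    rintro _ ⟨x, hx, rfl⟩
    exact ⟨⟨a, haN⟩ * x * ⟨a, haN⟩⁻¹, (mem_normalizer_iff.1 haU _).1 hx, by simp⟩
  have hcard : Nat.card ↥Ub = p ^ 2 := by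
    rw [← relIndex_ker, QuotientGroup.ker_mk', relIndex_subgroupOf hU₀, hidx]
  have hU1 : ⁅Ub, Bb⁆ ≤ Ub := commutator_le.2 fun x hx a ha => by
    rw [show ⁅x, a⁆ = x * (a * x⁻¹ * a⁻¹) by rw [commutatorElement_def]; group]
    exact mul_mem hx ((mem_normalizer_iff.1 (hn ha) _).1 (inv_mem hx))
  have hlt : ∀ X : Subgroup (↥Nn ⧸ U₀.subgroupOf Nn), X ≤ Ub → ⁅X, Bb⁆ ≤ Ub → ∀ m, Nat.card X ≤ p ^ (m + 1) →
      ⁅X, Bb⁆ ≤ X → Nat.card ↥⁅X, Bb⁆ ≤ p ^ m := by
    intro X hX _ m hXm hle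
    by_cases hbot : X = ⊥
    · subst hbot
      rw [commutator_bot_left, card_bot]
      exact Nat.one_le_pow _ _ (Fact.out : p.Prime).pos
    obtain ⟨i, hi⟩ := (hP₁.to_le (hle.trans (hX.trans hUP))).exists_card_eq
    rw [hi]
    refine Nat.pow_le_pow_right (Fact.out : p.Prime).pos ?_
    have h1 : p ^ i < p ^ (m + 1) := by
      rw [← hi]
      refine lt_of_lt_of_le (lt_of_le_of_ne (card_le_of_le hle) fun e => ?_) hXm
      exact H74.not_le_commutator_of_nilpotent hnil (hX.trans hUP) hBP hbot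
        (eq_of_le_of_card_ge hle e.ge).ge
    exact Nat.lt_succ_iff.1 ((Nat.pow_lt_pow_iff_right (Fact.out : p.Prime).one_lt).1 h1)
  have h1 := hlt Ub le_rfl hU1 1 hcard.le hU1
  have hU2 : ⁅⁅Ub, Bb⁆, Bb⁆ ≤ ⁅Ub, Bb⁆ := commutator_mono hU1 le_rfl
  have h2 : ⁅⁅Ub, Bb⁆, Bb⁆ = ⊥ := by
    rw [← card_eq_one]
    have := hlt ⁅Ub, Bb⁆ hU1 (hU2.trans hU1) 0 h1 hU2
    rw [pow_zero] at this
    exact le_antisymm this Nat.card_pos
  intro x hx a ha a' ha'
  have haN : a ∈ Nn := zpowers_le.2 hb₀ ha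
  have ha'N : a' ∈ Nn := zpowers_le.2 hb₀ ha'
  have hxN : x ∈ Nn := hU₀ hx
  have hm : π ⁅⁅(⟨x, hxN⟩ : ↥Nn), (⟨a, haN⟩ : ↥Nn)⁆, (⟨a', ha'N⟩ : ↥Nn)⁆ ∈ ⁅⁅Ub, Bb⁆, Bb⁆ := by
    rw [map_commutatorElement, map_commutatorElement]
    exact commutator_mem_commutator (commutator_mem_commutator (mem_map_of_mem π hx) (mem_map_of_mem π ha))
      (mem_map_of_mem π ha')
  rw [h2, mem_bot, ← MonoidHom.mem_ker, QuotientGroup.ker_mk'] at hm
  exact hm

end Cfsg.Agent.H34.Push
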