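import Cfsg.Agent.H34.Push.Reps
import Mathlib

/-!
The components of a group satisfying the standing hypotheses.
-/

set_option autoImplicit false
set_option linter.style.haveILetI false
set_option linter.unusedSectionVars false
set_option maxHeartbeats 1000000

open scoped commutatorElement

namespace Cfsg.Agent.H34.Push

open Subgroup
open Cfsg.Agent.H34.Para
open Cfsg.Agent.H34.Star

universe u

variable {G : Type u} [Group G] [Finite G] {p : ℕ} [Fact p.Prime] {T : Sylow p G} {M : Subgroup G}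

/-- The components in `G` from those in the faithful image. -/
theorem comps_of_image {H : Type u} [Group H] [Finite H] (R : SemiRep (vee p G) H) {r : ℕ} (hr : 1 ≤ r)
    (Eb : Fin r → Subgroup H) (hEP : ∀ i, Eb i ≤ R.π.range) (hcomm : ∀ i j, i ≠ j → ⁅Eb i, Eb j⁆ = ⊥)
    (hdirect : ∀ i, Eb i ⊓ (⨆ j ∈ {j | j ≠ i}, Eb j) = ⊥)
    (hsup : (⨆ i, Eb i) ⊔ (T : Subgroup G).map R.π = R.π.range)
    (hconj : ∀ i j, ∃ t ∈ (T : Subgroup G).map R.π, (Eb i).map (MulAut.conj t).toMonoidHom = Eb j)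
    (hperm : ∀ t ∈ (T : Subgroup G).map R.π, ∀ i, ∃ j, (Eb i).map (MulAut.conj t).toMonoidHom = Eb j)
    (hdec : (R.θ.range ⊓ centralizer (((⨆ i, Eb i) : Subgroup H) : Set H)) ⊔ (⨆ i, ⁅R.θ.range, Eb i⁆) = R.θ.range)
    (hcross : ∀ i j, i ≠ j → ⁅⁅R.θ.range, Eb i⁆, Eb j⁆ = ⊥)
    (hJ : (⨆ i, Eb i) = (Cfsg.thompsonSubgroup p G).map R.π) :
    Comps T (fun i => (Eb i).comap R.π) := by
  haveI := vee_normal (G := G) (p := p)
  have hkC : R.π.ker = cee p G := R.ker
  set E : Fin r → Subgroup G := fun i => (Eb i).comap R.π with hEdef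
  have hEmap : ∀ i, (E i).map R.π = Eb i := fun i => map_comap_eq_self (hEP i)
  have hCE : ∀ i, cee p G ≤ E i := fun i => hkC ▸ ker_le_comap R.π (Eb i)
  have hsmap : (⨆ i, E i).map R.π = ⨆ i, Eb i := by rw [Subgroup.map_iSup]; exact iSup_congr hEmap
  have hker_le : R.π.ker ≤ ⨆ i, E i := hkC.le.trans ((hCE ⟨0, hr⟩).trans (le_iSup E _))
  have hkJ : R.π.ker ≤ Cfsg.thompsonSubgroup p G ⊔ cee p G := hkC.le.trans le_sup_right
  have hCbot : (cee p G).map R.π = ⊥ := by rw [Subgroup.map_eq_bot_iff, hkC]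
  have hconjE : ∀ (t : G) i j, (Eb i).map (MulAut.conj (R.π t)).toMonoidHom = Eb j →
      (E i).map (MulAut.conj t).toMonoidHom = E j := by
    intro t i j ht'
    ext x
    rw [show E j = (Eb j).comap R.π from rfl, ← ht', mem_map_equiv, mem_comap, mem_comap, mem_map_equiv]
    simp [MulAut.conj_symm_apply]
  refine ⟨hr, hCE, ?_, ?_, fun i j hij => ?_, fun i => ?_, fun i j => ?_, fun t ht i => ?_, ?_,
    fun i j hij => ?_⟩
  · rw [← comap_map_eq_self hker_le, ← comap_map_eq_self hkJ, hsmap, hJ, Subgroup.map_sup, hCbot, sup_bot_eq]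
  · refine top_le_iff.1 ?_
    rw [← comap_map_eq_self (show R.π.ker ≤ (⨆ i, E i) ⊔ (T : Subgroup G) from hker_le.trans le_sup_left),
      Subgroup.map_sup, hsmap, hsup]
    exact fun g _ => ⟨g, rfl⟩
  · rw [← hkC, ← Subgroup.map_eq_bot_iff, Subgroup.map_commutator, hEmap, hEmap]
    exact hcomm i j hij
  · rw [← hkC]
    intro x hx
    rw [MonoidHom.mem_ker, ← mem_bot, ← hdirect i]
    refine ⟨hx.1, ?_⟩
    have h2 := mem_map_of_mem R.π hx.2
    simp only [Subgroup.map_iSup, hEmap] at h2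
    exact h2
  · obtain ⟨_, ⟨t, ht, rfl⟩, ht'⟩ := hconj i j
    exact ⟨t, ht, hconjE t i j ht'⟩
  · obtain ⟨j, hj⟩ := hperm (R.π t) (mem_map_of_mem _ ht) i
    exact ⟨j, hconjE t i j hj⟩
  · refine le_antisymm (sup_le inf_le_left (iSup_le fun i => comm_le_vee (E i))) fun v hv => ?_
    let D := (vee p G ⊓ centralizer ((⨆ i, E i : Subgroup G) : Set G)) ⊔ (⨆ i, ⁅vee p G, E i⁆)
    have hle : R.θ.range ≤ (D.subgroupOf (vee p G)).map R.θ := by
      conv_lhs => rw [← hdec]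
      refine sup_le ?_ (iSup_le fun i => ?_)
      · rintro _ ⟨⟨w, rfl⟩, hw⟩
        rw [← hsmap] at hw
        exact ⟨w, mem_sup_left (show (w : G) ∈ vee p G ⊓ centralizer ((⨆ i, E i : Subgroup G) : Set G) from
          ⟨w.2, (R.cent_iff _ w).1 hw⟩), rfl⟩
      · rw [← hEmap]
        intro x hx
        haveI := vee_normal (G := G) (p := p)
        obtain ⟨φ, hφs, hφ⟩ := R.exists_comm_hom (E i)
        obtain ⟨u, hu⟩ := hφs ⟨x, hx⟩
        obtain ⟨huV, hu'⟩ := hφ u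
        exact ⟨⟨u, huV⟩, mem_sup_right (le_iSup (fun i => ⁅vee p G, E i⁆) i u.2), by rw [← hu', hu]⟩
    obtain ⟨w, hw, e⟩ := hle ⟨⟨v, hv⟩, rfl⟩
    rw [R.inj e] at hw
    exact hw
  · rw [commutator_eq_bot_iff_le_centralizer]
    intro x hx
    haveI := vee_normal (G := G) (p := p)
    have hxV := comm_le_vee (E i) hx
    have h1 := (R.comm_iff (E i) ⟨x, hxV⟩).2 hx
    rw [hEmap] at h1
    have h2 := commutator_eq_bot_iff_le_centralizer.1 (hcross i j hij) h1
    rw [← hEmap] at h2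
    exact (R.cent_iff _ _).1 h2

/-- An element moving `V` by one vector sits in one component, where it is a transposition. -/
theorem exists_transposition {r : ℕ} {E : Fin r → Subgroup G} (h : Comps T E) {m : ℕ} (hm : 3 ≤ m)
    (hodd : (m : ZMod 2) = 1)
    (hrep : ∀ i, ∃ (ρ : ↥(E i) →* Equiv.Perm (Fin m)) (ψ : ↥⁅vee p G, E i⁆ →* Multiplicative (Fin m → ZMod 2)),
      Function.Surjective ρ ∧ (∀ e : ↥(E i), ρ e = 1 ↔ (e : G) ∈ cee p G) ∧
      (∀ u, ∑ a, Multiplicative.toAdd (ψ u) a = 0) ∧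
      (∀ v : Fin m → ZMod 2, ∑ a, v a = 0 → ∃ u, Multiplicative.toAdd (ψ u) = v) ∧
      (∀ u : ↥⁅vee p G, E i⁆, ψ u = 1 ↔ (u : G) ∈ centralizer (E i : Set G)) ∧
      ∀ (e : ↥(E i)) (u w : ↥⁅vee p G, E i⁆), (w : G) = (e : G) * (u : G) * (e : G)⁻¹ →
        ∀ a, Multiplicative.toAdd (ψ w) a = Multiplicative.toAdd (ψ u) ((ρ e)⁻¹ a))
    {g : G} (hg : g ∈ ⨆ i, E i) (hgC : g ∉ cee p G) (hg2 : g * g ∈ cee p G)
    (hidx : (vee p G ⊓ centralizer ({g} : Set G)).relIndex (vee p G) = 2) :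
    ∃ i, ∃ ρ ψ, SymRep p (E i) (m := m) ρ ψ := by
  classical
  haveI := cee_normal (G := G) (p := p)
  haveI := vee_normal (G := G) (p := p)
  have hfun : ∀ v ∈ vee p G, g * v * g⁻¹ * v⁻¹ ∈ vee p G := fun v hv =>
    mul_mem (Normal.conj_mem inferInstance v hv g) (inv_mem hv)
  -- two vectors moved by `g` are moved by the same amount
  have htwo : ∀ v ∈ vee p G, ∀ w ∈ vee p G, g * v * g⁻¹ ≠ v → g * w * g⁻¹ ≠ w →
      g * v * g⁻¹ * v⁻¹ = g * w * g⁻¹ * w⁻¹ := by
    intro v hv w hw hv1 hw1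
    have hvne : (⟨v, hv⟩ : ↥(vee p G)) ∉ (vee p G ⊓ centralizer ({g} : Set G)).subgroupOf (vee p G) :=
      fun h1 => hv1 (by rw [← (show v * g = g * v from mem_centralizer_singleton_iff.1 h1.2), mul_inv_cancel_right])
    have hwne : (⟨w, hw⟩ : ↥(vee p G)) ∉ (vee p G ⊓ centralizer ({g} : Set G)).subgroupOf (vee p G) :=
      fun h1 => hw1 (by rw [← (show w * g = g * w from mem_centralizer_singleton_iff.1 h1.2), mul_inv_cancel_right])
    have hwi : (⟨w, hw⟩ : ↥(vee p G))⁻¹ ∉ (vee p G ⊓ centralizer ({g} : Set G)).subgroupOf (vee p G) :=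
      fun h1 => hwne (inv_mem_iff.1 h1)
    have h3 : (⟨v, hv⟩ : ↥(vee p G)) * (⟨w, hw⟩)⁻¹ ∈
        (vee p G ⊓ centralizer ({g} : Set G)).subgroupOf (vee p G) :=
      (mul_mem_iff_of_index_two hidx).2 (iff_of_false hvne hwi)
    have h4 : v * w⁻¹ * g = g * (v * w⁻¹) := mem_centralizer_singleton_iff.1 h3.2
    have hcm : ∀ x ∈ vee p G, ∀ y ∈ vee p G, x * y = y * x := fun x hx y hy => by
      haveI := vee_elementary (G := G) (p := p) |>.1
      exact setLike_mul_comm hx hy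
    calc g * v * g⁻¹ * v⁻¹ = (g * (v * w⁻¹)) * g⁻¹ * (g * w * g⁻¹) * v⁻¹ := by group
      _ = (v * w⁻¹) * (g * w * g⁻¹ * v⁻¹) := by rw [← h4]; group
      _ = (g * w * g⁻¹ * v⁻¹) * (v * w⁻¹) := hcm _ (mul_mem hv (inv_mem hw)) _
          (mul_mem (Normal.conj_mem inferInstance w hw g) (inv_mem hv))
      _ = _ := by group
  -- split off one component
  have hnorm : ∀ i j, E j ≤ normalizer (E i : Set G) := by
    intro i j
    by_cases hij : j = i
    · subst hij; exact le_normalizer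
    · intro x hx
      refine Cfsg.Agent.H74.mem_normalizer_of_conj_mem fun y hy => ?_
      have h1 := h.cent_le i (h.comm j i hij (commutator_mem_commutator hx hy))
      rw [commutatorElement_def] at h1
      simpa using mul_mem h1 hy
  have hsplit : ∀ i, ∃ e ∈ E i, ∃ g' ∈ (⨆ j ∈ {j | j ≠ i}, E j), g = e * g' := by
    intro i
    have hle : (⨆ j, E j) ≤ E i ⊔ ⨆ j ∈ {j | j ≠ i}, E j := iSup_le fun j => by
      by_cases hji : j = i
      · subst hji; exact le_sup_left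
      · exact le_sup_of_le_right (le_iSup₂ (f := fun j (_ : j ∈ {j | j ≠ i}) => E j) j hji)
    have hg' := hle hg
    rw [← SetLike.mem_coe, coe_mul_of_right_le_normalizer_left _ _
      (iSup₂_le fun j _ => hnorm i j)] at hg'
    obtain ⟨e, he, g', hg'', rfl⟩ := hg'
    exact ⟨e, he, g', hg'', rfl⟩
  choose e he g' hg' hge using hsplit
  have hothers : ∀ i, ∀ x ∈ (⨆ j ∈ {j | j ≠ i}, E j), x ∈ centralizer ((⁅vee p G, E i⁆ : Subgroup G) : Set G) := fun i => by
    intro x hx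
    refine (iSup₂_le fun j hj => ?_ : (⨆ j ∈ {j | j ≠ i}, E j) ≤ _) hx
    exact le_centralizer_iff.1 (commutator_eq_bot_iff_le_centralizer.1 (h.cross i j (Ne.symm hj)))
  have hall : (⨆ i, E i) ≤ centralizer ((vee p G ⊓ centralizer ((⨆ i, E i : Subgroup G) : Set G) : Subgroup G) :
      Set G) := le_centralizer_iff.1 inf_le_right
  -- `g` acts on `[V, E_i]` as its component does
  have hsame : ∀ i, ∀ u ∈ ⁅vee p G, E i⁆, g * u * g⁻¹ = e i * u * (e i)⁻¹ := by
    intro i u hu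
    have hg'u : g' i * u * (g' i)⁻¹ = u := by
      rw [← mem_centralizer_iff.1 (hothers i _ (hg' i)) u hu, mul_inv_cancel_right]
    calc g * u * g⁻¹ = e i * (g' i * u * (g' i)⁻¹) * (e i)⁻¹ := by rw [hge i]; group
      _ = _ := by rw [hg'u]
  obtain ⟨i, hi⟩ : ∃ i, e i ∉ cee p G := by
    by_contra hno
    push Not at hno
    refine hgC (mem_centralizer_iff.2 fun v hv => ?_)
    have hfix : ∀ x ∈ (vee p G ⊓ centralizer ((⨆ i, E i : Subgroup G) : Set G)) ⊔ (⨆ i, ⁅vee p G, E i⁆),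
        x * g = g * x := by
      have hle : (vee p G ⊓ centralizer ((⨆ i, E i : Subgroup G) : Set G)) ⊔ (⨆ i, ⁅vee p G, E i⁆) ≤
          centralizer ({g} : Set G) := by
        refine sup_le (fun x hx => mem_centralizer_singleton_iff.2 (mem_centralizer_iff.1 hx.2 g hg).symm)
          (iSup_le fun j u hu => mem_centralizer_singleton_iff.2 ?_)
        have h1 := hsame j u hu
        rw [conj_eq_of_mem_cee (hno j) (comm_le_vee _ hu)] at h1
        exact (mul_inv_eq_iff_eq_mul.1 h1).symm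
      exact fun x hx => mem_centralizer_singleton_iff.1 (hle hx)
    exact hfix v (h.dec.ge hv)
  obtain ⟨ρ, ψ, hρs, hρk, hev, hon, hψk, hact⟩ := hrep i
  have hρi : ρ ⟨e i, he i⟩ ≠ 1 := fun e1 => hi ((hρk _).1 e1)
  obtain ⟨a, ha⟩ : ∃ a, ρ ⟨e i, he i⟩ a ≠ a := by
    by_contra hno
    push Not at hno
    exact hρi (Equiv.ext hno)
  -- a moved vector of the section
  have hmoved : ∀ a, ρ ⟨e i, he i⟩ a ≠ a → ∀ c, ρ ⟨e i, he i⟩ c = c → ∃ u ∈ ⁅vee p G, E i⁆,
      g * u * g⁻¹ ≠ u ∧ ∃ hw : g * u * g⁻¹ * u⁻¹ ∈ ⁅vee p G, E i⁆,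
        Multiplicative.toAdd (ψ ⟨_, hw⟩) = fun k => (if k = ρ ⟨e i, he i⟩ a then 1 else 0) +
          (if k = a then 1 else 0) := by
    intro a ha c hc
    obtain ⟨u, hu⟩ := hon (fun k => (if k = a then 1 else 0) + (if k = c then 1 else 0))
      (by rw [Finset.sum_add_distrib]; simp; rfl)
    have hun : e i ∈ normalizer ((⁅vee p G, E i⁆ : Subgroup G) : Set G) := normalizer_commutator_ge_right _ _ (he i)
    have huw : e i * (u : G) * (e i)⁻¹ ∈ ⁅vee p G, E i⁆ := (mem_normalizer_iff.1 hun u).1 u.2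
    have hw : g * (u : G) * g⁻¹ * (u : G)⁻¹ ∈ ⁅vee p G, E i⁆ := by
      rw [hsame i u u.2]
      exact mul_mem huw (inv_mem u.2)
    have hψw : Multiplicative.toAdd (ψ ⟨_, hw⟩) = fun k => (if k = ρ ⟨e i, he i⟩ a then 1 else 0) +
        (if k = a then 1 else 0) := by
      funext k
      have e1 := hact ⟨e i, he i⟩ u ⟨_, huw⟩ rfl k
      rw [show (⟨_, hw⟩ : ↥⁅vee p G, E i⁆) = ⟨_, huw⟩ * u⁻¹ from Subtype.ext (by
          show g * (u : G) * g⁻¹ * (u : G)⁻¹ = e i * (u : G) * (e i)⁻¹ * (u : G)⁻¹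
          rw [hsame i u u.2]),
        map_mul, map_inv, toAdd_mul, toAdd_inv, Pi.add_apply, Pi.neg_apply, e1, hu]
      simp only [Equiv.Perm.inv_eq_iff_eq, hc]
      have key : ∀ x y z : ZMod 2, x + z + -(y + z) = x + y := by decide
      exact key _ _ _
    refine ⟨u, u.2, fun e1 => ?_, hw, hψw⟩
    have h2 : ψ ⟨_, hw⟩ = 1 := (hψk _).2 (by
      show g * (u : G) * g⁻¹ * (u : G)⁻¹ ∈ centralizer (E i : Set G)
      rw [e1, mul_inv_cancel]; exact one_mem _)
    rw [h2, toAdd_one] at hψw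
    have h3 := congrFun hψw a
    simp [Ne.symm ha] at h3
  have hinv : ∀ x, ρ ⟨e i, he i⟩ (ρ ⟨e i, he i⟩ x) = x := by
    intro x
    have h2 : e i * e i ∈ cee p G := by
      -- `g² ≡ e²` on the section
      refine (hρk ⟨_, mul_mem (he i) (he i)⟩).1 ?_
      refine Star.evAct_faithful hm fun v => Subtype.ext (funext fun k => ?_)
      obtain ⟨u, hu⟩ := hon v.1 v.2
      show v.1 ((ρ ⟨_, mul_mem (he i) (he i)⟩)⁻¹ k) = v.1 k
      rw [← hu, ← hact ⟨_, mul_mem (he i) (he i)⟩ u u ?_]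
      have hun : e i ∈ normalizer ((⁅vee p G, E i⁆ : Subgroup G) : Set G) := normalizer_commutator_ge_right _ _ (he i)
      calc (u : G) = (g * g) * u * (g * g)⁻¹ := (conj_eq_of_mem_cee hg2 (comm_le_vee _ u.2)).symm
        _ = g * (g * u * g⁻¹) * g⁻¹ := by group
        _ = g * (e i * u * (e i)⁻¹) * g⁻¹ := by rw [hsame i u u.2]
        _ = e i * (e i * u * (e i)⁻¹) * (e i)⁻¹ := hsame i _ ((mem_normalizer_iff.1 hun u).1 u.2)
        _ = _ := by simp only [coe_mk]; group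
    have h3 := (hρk ⟨_, mul_mem (he i) (he i)⟩).2 h2
    rw [show (⟨_, mul_mem (he i) (he i)⟩ : ↥(E i)) = ⟨e i, he i⟩ * ⟨e i, he i⟩ from rfl, map_mul] at h3
    exact Equiv.ext_iff.1 h3 x
  obtain ⟨f, hf⟩ := exists_fixed_of_involutive hodd _ hinv
  set b := ρ ⟨e i, he i⟩ a with hb
  have hswap : ρ ⟨e i, he i⟩ = Equiv.swap a b := by
    refine Equiv.ext fun c => ?_
    by_cases hca : c = a
    · rw [hca, Equiv.swap_apply_left]
    by_cases hcb : c = b
    · rw [hcb, Equiv.swap_apply_right, hb, hinv]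
    rw [Equiv.swap_apply_of_ne_of_ne hca hcb]
    by_contra hcc
    obtain ⟨u, huU, hu1, hw, hψ1⟩ := hmoved a ha f hf
    obtain ⟨u', huU', hu1', hw', hψ2⟩ := hmoved c hcc f hf
    have h5 := htwo u (comm_le_vee _ huU) u' (comm_le_vee _ huU') hu1 hu1'
    have h6 : (⟨_, hw⟩ : ↥⁅vee p G, E i⁆) = ⟨_, hw'⟩ := Subtype.ext h5
    rw [h6, hψ2] at hψ1
    have h7 := congrFun hψ1 c
    simp [hca, Ne.symm hcc] at h7
    exact hcb (h7.trans hb.symm)
  -- the other parts are trivial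
  obtain ⟨u, huU, hu1, hw, hψ1⟩ := hmoved a ha f hf
  have hwC : g * u * g⁻¹ * u⁻¹ ∉ centralizer (E i : Set G) := by
    intro hc
    have h2 := (hψk ⟨_, hw⟩).2 hc
    rw [h2, toAdd_one] at hψ1
    have h3 := congrFun hψ1 a
    rw [← hb] at h3
    simp [Ne.symm ha] at h3
  have hg'C : g' i ∈ cee p G := by
    refine mem_centralizer_iff.2 fun v hv => ?_
    have hle : (vee p G ⊓ centralizer ((⨆ k, E k : Subgroup G) : Set G)) ⊔ (⨆ k, ⁅vee p G, E k⁆) ≤
        centralizer ({g' i} : Set G) := by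
      refine sup_le (fun x hx => mem_centralizer_singleton_iff.2 (mem_centralizer_iff.1 hx.2 _ ?_).symm)
        (iSup_le fun j x hx => mem_centralizer_singleton_iff.2 ?_)
      · exact (iSup₂_le fun k _ => le_iSup E k : (⨆ k ∈ {k | k ≠ i}, E k) ≤ _) (hg' i)
      · by_cases hji : j = i
        · subst hji
          exact mem_centralizer_iff.1 (hothers j _ (hg' j)) x hx
        · have hxe : e i * x * (e i)⁻¹ = x := by
            have := (commutator_eq_bot_iff_le_centralizer.1 (h.cross j i hji)) hx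
            rw [mem_centralizer_iff.1 this _ (he i), mul_inv_cancel_right]
          by_contra hne
          have hgx : g * x * g⁻¹ ≠ x := by
            intro e1
            refine hne ?_
            have e2 : g' i * x * (g' i)⁻¹ = x := by
              calc g' i * x * (g' i)⁻¹ = (e i)⁻¹ * (g * x * g⁻¹) * e i := by rw [hge i]; group
                _ = (e i)⁻¹ * (e i * x * (e i)⁻¹) * e i := by rw [e1, hxe]
                _ = x := by group
            exact (mul_inv_eq_iff_eq_mul.1 e2).symm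
          have h5 := htwo u (comm_le_vee _ huU) x (comm_le_vee _ hx) hu1 hgx
          refine hwC (h5 ▸ ?_)
          have h6 : g * x * g⁻¹ * x⁻¹ ∈ ⁅vee p G, E j⁆ := by
            rw [hsame j x hx]
            exact mul_mem ((mem_normalizer_iff.1 (normalizer_commutator_ge_right _ _ (he j)) x).1 hx) (inv_mem hx)
          exact commutator_eq_bot_iff_le_centralizer.1 (h.cross j i hji) h6
    exact mem_centralizer_singleton_iff.1 (hle (h.dec.ge hv))
  have hcent : ∀ x y : G, x⁻¹ * y ∈ cee p G →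
      vee p G ⊓ centralizer ({x} : Set G) = vee p G ⊓ centralizer ({y} : Set G) := by
    intro x y hxy
    ext v
    refine and_congr_right fun hv => ?_
    show v ∈ centralizer ({x} : Set G) ↔ v ∈ centralizer ({y} : Set G)
    rw [mem_centralizer_singleton_iff, mem_centralizer_singleton_iff]
    have e1 : y * v * y⁻¹ = x * v * x⁻¹ := by
      calc y * v * y⁻¹ = x * (x⁻¹ * y * v * (x⁻¹ * y)⁻¹) * x⁻¹ := by group
        _ = _ := by rw [conj_eq_of_mem_cee hxy hv]
    constructor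
    · intro hx
      exact (mul_inv_eq_iff_eq_mul.1 (show y * v * y⁻¹ = v by rw [e1, ← hx, mul_inv_cancel_right])).symm
    · intro hy
      exact (mul_inv_eq_iff_eq_mul.1 (show x * v * x⁻¹ = v by rw [← e1, ← hy, mul_inv_cancel_right])).symm
  have hidx' : (vee p G ⊓ centralizer ({e i} : Set G)).relIndex (vee p G) = 2 := by
    rw [hcent (e i) g (by rw [hge i, inv_mul_cancel_left]; exact hg'C)]
    exact hidx
  refine ⟨i, ρ, ψ, hρs, hρk, hev, hon, hψk, hact, fun x c d hcd hx => ?_⟩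
  obtain ⟨π, hπ⟩ := isConj_iff.1 (Equiv.Perm.isConj_swap (α := Fin m) (Ne.symm ha) hcd)
  obtain ⟨k, rfl⟩ := hρs π
  have hxk : ρ (k * ⟨e i, he i⟩ * k⁻¹) = ρ x := by rw [map_mul, map_mul, map_inv, hswap, hx, hπ]
  have hmem : ((k * ⟨e i, he i⟩ * k⁻¹ : ↥(E i)) : G)⁻¹ * (x : G) ∈ cee p G := by
    have := (hρk ((k * ⟨e i, he i⟩ * k⁻¹)⁻¹ * x)).1 (by rw [map_mul, map_inv, hxk, inv_mul_cancel])
    exact this
  rw [← hcent _ _ hmem]
  have hmap : (vee p G ⊓ centralizer ({e i} : Set G)).map (MulAut.conj (k : G)).toMonoidHom =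
      vee p G ⊓ centralizer ({((k * ⟨e i, he i⟩ * k⁻¹ : ↥(E i)) : G)} : Set G) := by
    ext y
    rw [mem_map_equiv, MulAut.conj_symm_apply, mem_inf, mem_inf, mem_centralizer_singleton_iff,
      mem_centralizer_singleton_iff]
    refine and_congr ⟨fun hy => ?_, fun hy => by simpa using Normal.conj_mem inferInstance y hy (k : G)⁻¹⟩
      ⟨fun hy => ?_, fun hy => ?_⟩
    · simpa [mul_assoc] using Normal.conj_mem inferInstance _ hy (k : G)
    · calc y * ((k * ⟨e i, he i⟩ * k⁻¹ : ↥(E i)) : G)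
          = (k : G) * (((k : G)⁻¹ * y * (k : G)) * e i) * (k : G)⁻¹ := by simp only [coe_mul, coe_inv]; group
        _ = _ := by rw [hy]; simp only [coe_mul, coe_inv]; group
    · calc (k : G)⁻¹ * y * (k : G) * e i
          = (k : G)⁻¹ * (y * ((k * ⟨e i, he i⟩ * k⁻¹ : ↥(E i)) : G)) * k := by simp only [coe_mul, coe_inv]; group
        _ = _ := by rw [hy]; simp only [coe_mul, coe_inv]; group
  have hv : (vee p G).map (MulAut.conj (k : G)).toMonoidHom = vee p G := by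
    refine eq_of_le_of_card_ge ?_ (card_map_of_injective (MulAut.conj (k : G)).injective).ge
    rintro _ ⟨v, hv, rfl⟩
    exact Normal.conj_mem inferInstance v hv _
  have h2 := relIndex_map_map_of_injective (f := (MulAut.conj (k : G)).toMonoidHom)
    (vee p G ⊓ centralizer ({e i} : Set G)) (vee p G) (MulAut.conj (k : G)).injective
  rw [hmap, hv] at h2
  rw [h2, hidx']

/-- The components. -/
theorem Ctx.exists_case (hc : Ctx T M) :
    ∃ (r : ℕ) (E : Fin r → Subgroup G),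
      (∃ (F : Type) (_ : Field F) (_ : Fintype F) (n : ℕ), LinCase T E F n) ∨ ∃ n, SymCase T E n := by
  classical
  haveI := vee_normal (G := G) (p := p)
  let R := semiRep (vee p G)
  have h := ffp_of_rep hc.pmin hc.hM hc.hTM hc.charp hc.starstar_ne rfl R
  obtain ⟨A, hA, hAC⟩ := exists_max_moving hc.pmin hc.hM hc.hTM hc.charp hc.starstar_ne
  haveI : (Cfsg.thompsonSubgroup p G).Normal :=
    haveI := thompsonSubgroup_characteristic (p := p) (G := G); inferInstance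
  obtain ⟨hAc, hAe, hAl⟩ := max_image_large rfl R hA
  have hAne : A.map R.π ≠ ⊥ := by
    rw [Ne, Subgroup.map_eq_bot_iff, R.ker]
    exact hAC
  obtain ⟨A₀, hA₀A, hA₀⟩ := exists_minOff (p := p) (V := R.θ.range) (P := A.map R.π) le_rfl hAne hAc hAe hAl
  have hA₀P : A₀ ≤ R.π.range := hA₀A.trans (map_le_range _ _)
  have hA₀J : A₀ ≤ (Cfsg.thompsonSubgroup p G).map R.π := hA₀A.trans (map_mono (le_sSup hA))
  have hJgen : ∀ {r : ℕ} (Eb : Fin r → Subgroup (Equiv.Perm ↥(vee p G))),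
      (∀ i, Eb i ≤ closure {g | ∃ X, Mem R.π.range A₀ X ∧ g ∈ X}) →
      (∀ X : Subgroup (Equiv.Perm ↥(vee p G)), X ≤ R.π.range → (∀ a ∈ X, ∀ b ∈ X, a * b = b * a) →
        (∀ a ∈ X, a ^ p = 1) →
        Nat.card ↥R.θ.range ≤ Nat.card X * Nat.card ↥(R.θ.range ⊓ centralizer (X : Set (Equiv.Perm ↥(vee p G)))) →
        X ≤ ⨆ i, Eb i) →
      (⨆ i, Eb i) = (Cfsg.thompsonSubgroup p G).map R.π := by
    intro r Eb hmem hoff
    refine le_antisymm (iSup_le fun i => (hmem i).trans ((closure_le _).2 ?_)) ?_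
    · rintro x ⟨X, ⟨_, ⟨g, rfl⟩, rfl⟩, hx⟩
      obtain ⟨a, ha, rfl⟩ := hx
      obtain ⟨j, hj, rfl⟩ := hA₀J ha
      exact ⟨g * j * g⁻¹, Normal.conj_mem inferInstance _ hj g, by simp⟩
    · refine map_le_iff_le_comap.2 (sSup_le fun B hB => map_le_iff_le_comap.1 ?_)
      obtain ⟨hBc, hBe, hBl⟩ := max_image_large rfl R hB
      exact hoff _ (map_le_range _ _) hBc hBe hBl
  by_cases hq : 3 ≤ Nat.card ↥A₀
  · obtain ⟨r, Eb, hr, hEP, hcomm, hdirect, hsup, hconj, hperm, hmem, hdec, hcross, hper⟩ :=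
      exists_components_large' h hA₀P hA₀ hq
    obtain ⟨n, hn, F, iF, iF', hF, hiso, hact⟩ := hper ⟨0, hr⟩
    have hJ := hJgen Eb hmem fun X hXP hXc hXe hl =>
      offender_mem_sl2 h hEP hcomm hdirect hsup hconj hperm hdec hcross ⟨0, hr⟩ hn hF hiso hact hXP hXc hXe hl
    have hcomps := comps_of_image R hr Eb hEP hcomm hdirect hsup hconj hperm hdec hcross hJ
    refine ⟨r, _, Or.inl ⟨F, iF, iF', n, hcomps, hn, hF, fun i => ?_⟩⟩
    have hEmap : ((Eb ⟨0, hr⟩).comap R.π).map R.π = Eb ⟨0, hr⟩ := map_comap_eq_self (hEP _)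
    rw [← hEmap] at hiso hact
    obtain ⟨ρ, ψ, hrep⟩ := LinRep.exists_of_acts (R.quot_iso _ hiso) (R.acts_sl2 _ hact)
    obtain ⟨t, -, ht⟩ := hcomps.trans ⟨0, hr⟩ i
    exact hrep.conj t ht
  · obtain ⟨a, ha, ha1⟩ := (bot_or_exists_ne_one A₀).resolve_left hA₀.ne
    have hdvd : p ∣ Nat.card ↥A₀ := by
      have e2 := orderOf_dvd_natCard (⟨a, ha⟩ : ↥A₀)
      rwa [orderOf_mk, orderOf_eq_prime (hA₀.expA a ha) ha1] at e2
    have hle := Nat.le_of_dvd Nat.card_pos hdvd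
    have h2 := (Fact.out : p.Prime).two_le
    obtain rfl : p = 2 := by omega
    have hq2 : Nat.card ↥A₀ = 2 := by omega
    letI : CommGroup ↥R.θ.range :=
      { (inferInstance : Group ↥R.θ.range) with mul_comm := fun x y => Subtype.ext (h.comm x x.2 y y.2) }
    let e : Additive ↥R.θ.range ≃+ Additive ↥R.θ.range := AddEquiv.refl _
    obtain ⟨S, hctr, hphi⟩ := exists_ts h e hA₀P hA₀
    have Re : Real h e A₀ S := ⟨hA₀P, hA₀, hctr, hphi⟩
    obtain ⟨n, F₀, hn, hF₀, hFM, -⟩ := exists_closed_frame h e Re hq2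
    obtain ⟨-, r, Eb, hr, hEP, hcomm, hdirect, hsup, hconj, hperm, hmem, hdec, hcross, hper⟩ :=
      components_of_frame h e Re F₀ hn hF₀ hFM
    obtain ⟨m, hm, hiso, hact⟩ := hper ⟨0, hr⟩
    have hpow : 2 ≤ 2 ^ m := le_self_pow₀ (by norm_num) (by omega)
    have hodd : ((2 ^ m + 1 : ℕ) : ZMod 2) = 1 := by
      rw [Nat.cast_add, Nat.cast_pow, show ((2 : ℕ) : ZMod 2) = 0 from rfl, zero_pow (by omega : m ≠ 0),
        zero_add, Nat.cast_one]
    have hJ := hJgen Eb hmem fun X hXP hXc hXe hl =>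
      offender_mem_perm h hEP hcomm hdirect hsup hconj hperm hdec hcross ⟨0, hr⟩ (n := 2 ^ m + 1)
        (by omega) hodd hiso hact hXP hXc hXe hl
    have hcomps := comps_of_image R hr Eb hEP hcomm hdirect hsup hconj hperm hdec hcross hJ
    have hEmap : ((Eb ⟨0, hr⟩).comap R.π).map R.π = Eb ⟨0, hr⟩ := map_comap_eq_self (hEP _)
    rw [← hEmap] at hiso hact
    obtain ⟨ρ, ψ, hs, hk, hev, hon, hψk, hρa⟩ :=
      exists_perm_of_acts (m := 2 ^ m + 1) (by omega) (R.quot_iso _ hiso) (R.acts_perm _ hact)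
    -- all components carry representations of the same degree
    have hall : ∀ i, ∃ (ρ : ↥((Eb i).comap R.π) →* Equiv.Perm (Fin (2 ^ m + 1)))
        (ψ : ↥⁅vee 2 G, (Eb i).comap R.π⁆ →* Multiplicative (Fin (2 ^ m + 1) → ZMod 2)),
        Function.Surjective ρ ∧ (∀ e, ρ e = 1 ↔ (e : G) ∈ cee 2 G) ∧
        (∀ u, ∑ a, Multiplicative.toAdd (ψ u) a = 0) ∧
        (∀ v : Fin (2 ^ m + 1) → ZMod 2, ∑ a, v a = 0 → ∃ u, Multiplicative.toAdd (ψ u) = v) ∧
        (∀ u, ψ u = 1 ↔ (u : G) ∈ centralizer (((Eb i).comap R.π : Subgroup G) : Set G)) ∧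
        ∀ (e : ↥((Eb i).comap R.π)) (u w : ↥⁅vee 2 G, (Eb i).comap R.π⁆),
          (w : G) = (e : G) * (u : G) * (e : G)⁻¹ →
          ∀ a, Multiplicative.toAdd (ψ w) a = Multiplicative.toAdd (ψ u) ((ρ e)⁻¹ a) := by
      intro i
      obtain ⟨t, -, ht⟩ := hcomps.trans ⟨0, hr⟩ i
      obtain ⟨hE, hU, hC⟩ := conj_pair (p := 2) t ht
      haveI := cee_normal (G := G) (p := 2)
      let τ : ↥((Eb i).comap R.π) →* ↥((Eb ⟨0, hr⟩).comap R.π) :=
        MonoidHom.mk' (fun x => ⟨t⁻¹ * x * t, (hE x).1 x.2⟩) (fun a b => Subtype.ext (by simp [mul_assoc]))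
      let σ : ↥⁅vee 2 G, (Eb i).comap R.π⁆ →* ↥⁅vee 2 G, (Eb ⟨0, hr⟩).comap R.π⁆ :=
        MonoidHom.mk' (fun x => ⟨t⁻¹ * x * t, (hU x).1 x.2⟩) (fun a b => Subtype.ext (by simp [mul_assoc]))
      have hτ : Function.Surjective τ := fun e =>
        ⟨⟨t * e * t⁻¹, (hE _).2 (by simp [mul_assoc])⟩, Subtype.ext (by simp [τ, mul_assoc])⟩
      have hσ : Function.Surjective σ := fun u =>
        ⟨⟨t * u * t⁻¹, (hU _).2 (by simp [mul_assoc])⟩, Subtype.ext (by simp [σ, mul_assoc])⟩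
      refine ⟨ρ.comp τ, ψ.comp σ, hs.comp hτ, fun e => (hk _).trans ?_, fun u => hev _, fun v hv => ?_,
        fun u => (hψk _).trans (hC u).symm, fun e u w hw => hρa (τ e) (σ u) (σ w) ?_⟩
      · exact ⟨fun h1 => by simpa [τ, mul_assoc] using Normal.conj_mem inferInstance _ h1 t,
          fun h1 => by simpa [τ, mul_assoc] using Normal.conj_mem inferInstance _ h1 t⁻¹⟩
      · obtain ⟨u, hu⟩ := hon v hv
        obtain ⟨u', rfl⟩ := hσ u
        exact ⟨u', hu⟩
      · simp [σ, τ, hw, mul_assoc]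
    -- the minimal offender is one transvection
    obtain ⟨g, hgA, hga⟩ := (hA₀A ha : a ∈ A.map R.π)
    have hgJ : g ∈ ⨆ i, (Eb i).comap R.π := hcomps.sup.ge (mem_sup_left ((le_sSup hA : A ≤ _) hgA))
    have hgC : g ∉ cee 2 G := by
      show g ∉ centralizer (vee 2 G : Set G)
      rw [← R.ker, MonoidHom.mem_ker, hga]
      exact ha1
    have hg2 : g * g ∈ cee 2 G := by
      show g * g ∈ centralizer (vee 2 G : Set G)
      rw [← R.ker, MonoidHom.mem_ker, map_mul, hga, ← sq, hA₀.expA a ha]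
    have hz : zpowers a = A₀ := eq_of_le_of_card_ge (zpowers_le.2 ha)
      (by rw [Nat.card_zpowers, orderOf_eq_prime (hA₀.expA a ha) ha1, hq2])
    have hcard := h.card_eq hA₀P hA₀
    have hcen : R.θ.range ⊓ centralizer (A₀ : Set (Equiv.Perm ↥(vee 2 G))) =
        ((vee 2 G ⊓ centralizer ({g} : Set G)).subgroupOf (vee 2 G)).map R.θ := by
      rw [← hz, ← hga, ← MonoidHom.map_zpowers]
      refine le_antisymm ?_ ?_
      · rintro _ ⟨⟨v, rfl⟩, hv⟩
        exact ⟨v, ⟨v.2, centralizer_le (Set.singleton_subset_iff.2 (mem_zpowers g))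
          ((R.cent_iff _ v).1 hv)⟩, rfl⟩
      · rintro _ ⟨v, hv, rfl⟩
        refine ⟨⟨v, rfl⟩, (R.cent_iff _ v).2 (le_centralizer_iff.1 (zpowers_le.2 ?_) (mem_zpowers (v : G)))⟩
        exact mem_centralizer_iff.2 fun x hx => by
          obtain ⟨k, rfl⟩ := mem_zpowers_iff.1 hx
          exact ((show Commute (v : G) g from mem_centralizer_singleton_iff.1 hv.2).zpow_left k).eq
    have hidx : (vee 2 G ⊓ centralizer ({g} : Set G)).relIndex (vee 2 G) = 2 := by
      rw [hq2, hcen, card_map_of_injective R.inj, Nat.card_congr (MonoidHom.ofInjective R.inj).symm.toEquiv]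
        at hcard
      have e1 := ((vee 2 G ⊓ centralizer ({g} : Set G)).subgroupOf (vee 2 G)).card_mul_index
      rw [hcard, mul_comm] at e1
      exact Nat.eq_of_mul_eq_mul_right Nat.card_pos e1
    obtain ⟨i₁, ρ₁, ψ₁, hrep⟩ := exists_transposition hcomps (m := 2 ^ m + 1) (by omega) hodd hall hgJ hgC hg2 hidx
    refine ⟨r, _, Or.inr ⟨m, hcomps, rfl, hm, fun i => ?_⟩⟩
    obtain ⟨t, -, ht⟩ := hcomps.trans i₁ i
    exact hrep.conj t ht

end Cfsg.Agent.H34.Push
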