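import Cfsg.Agent.H34.Push.Core
import Cfsg.Agent.H34.Push.Setup
import Cfsg.Agent.H34.Push.Kill
import Cfsg.Agent.H34.Push.Assemble
import Cfsg.Agent.H35.PushExceptional.Main
import Cfsg.Agent.H54.Push.Foreign
import Cfsg.Agent.H85.Push.LinImages
import Cfsg.Agent.H39.Push.RankBlock
import Cfsg.Agent.H85.Push.LinRank
import Cfsg.Agent.H29.Push.SymImages
import Cfsg.Agent.H21.Push.LinBlocks
import Cfsg.Agent.H54.Push.SymStar
import Cfsg.Agent.H88.Push.SymBlocks
import Cfsg.Agent.H29.Push.SymRank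
import Mathlib

/-!
Pushing up for minimal parabolic groups: the assembly.
-/

set_option autoImplicit false
set_option linter.style.longLine false

open scoped commutatorElement

namespace Cfsg.Agent.H34.Push

open Subgroup

universe u

variable {G : Type u} [Group G] [Finite G] {p : ℕ} [Fact p.Prime] {T : Sylow p G} {M : Subgroup G}
variable {r : ℕ} {E : Fin r → Subgroup G}



theorem Ctx.rankBlock_of (hc : Ctx T M) {F : Type} [Field F] [Fintype F] {n : ℕ} {R : Subgroup G}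
    (co : Core T E) (hR : RankSub T F n R) : RankBlock T F n R := by
  refine H39.Push.rankBlock hc co hR fun S hS => ?_
  obtain ⟨S', K, hS', hset⟩ := hR.setup
  obtain rfl : S = S' := Sylow.ext (hS.trans hS'.symm)
  exact H35.PushExceptional.rankData hset (hS.symm ▸ hR.noChar)

theorem Ctx.exists_family (hc : Ctx T M) : ∃ (r : ℕ) (E Bk : Fin r → Subgroup G),
    Core T E ∧ cee p G = Cfsg.pCore p G ∧ Family T Bk ∧ StarClauses T Bk := by
  obtain ⟨r, E, ⟨F, iF, iF', n, h⟩ | ⟨n, h⟩⟩ := hc.exists_case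
  · have co := hc.core h.toComps (H85.Push.genData hc h)
    choose R hR hRsup using H85.Push.exists_rankSub hc h co
    have hD := fun i => hc.rankBlock_of co (hR i)
    have hQ := hc.cee_eq co (hR ⟨0, h.pos⟩) (hD _)
    obtain ⟨Bk, h1, h2⟩ := H21.Push.lin_main hc h co hQ (H85.Push.sylow_sup hc h) R (fun i => ⟨hR i, hRsup i⟩) hD
    exact ⟨r, E, Bk, co, hQ, h1, h2⟩
  · have co := hc.core h.toComps (H29.Push.genData hc h)
    obtain ⟨R, hR⟩ := H29.Push.exists_rankSub hc h co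
    have hB := hc.rankBlock_of co hR
    have hQ := hc.cee_eq co hR hB
    have si := H29.Push.symImages hc h
    obtain ⟨Bk, h1, hle⟩ := H88.Push.sym_family hc h si co hQ (hB.comm_pee_residual h.two) (hR.residual_le_ell hB)
    exact ⟨r, E, Bk, co, hQ, h1, H54.Push.sym_star hc h si co hQ Bk h1 hle⟩

theorem pushing_up {G : Type u} [Group G] [Finite G] {p : ℕ} [Fact p.Prime] (hmin : Cfsg.IsPMinimal p G) (hG : Subgroup.centralizer (Cfsg.pCore p G : Set G) ≤ Cfsg.pCore p G) (T : Sylow p G) (hchar : ∀ C : Subgroup G, C ≤ Cfsg.baumannSubgroupOf p (T : Subgroup G) → C ≠ ⊥ → (C.subgroupOf (Cfsg.baumannSubgroupOf p (T : Subgroup G))).Characteristic → ¬ C.Normal) (hz : ¬ (Cfsg.omegaOneCenter p (T : Subgroup G)).Normal) : ∃ 𝓑 : Set (Subgroup G), Cfsg.HasBaumannBlockStructure p (T : Subgroup G) 𝓑 ∧ (∀ E ∈ 𝓑, ∀ m : ℕ, Nonempty (↥E ⧸ Cfsg.pCore p ↥E ≃* ↥(alternatingGroup (Fin (2 * m + 1)))) → ∃ n : ℕ, 2 * m + 1 = 2 ^ n + 1) ∧ Cfsg.cStarOf p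 (T : Subgroup G) = (Cfsg.cStarOf p (T : Subgroup G) ⊓ sSup 𝓑) ⊔ (T : Subgroup G) := by
  obtain ⟨M, ⟨hM, hTM⟩, -⟩ := (hmin T).2
  have hc : Ctx T M := ⟨hmin, hG, hchar, hz, hM, hTM⟩
  obtain ⟨r, E, Bk, co, hQ, h1, h2⟩ := hc.exists_family
  exact structure_of_family h1 h2 fun F hF hne => H54.Push.foreign_block hc co hQ h1 F hF hne

end Cfsg.Agent.H34.Push
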