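import Cfsg.Agent.H34.Push.Basic
import Mathlib

/-!
The representations on the natural sections: from the sections, and along conjugation.
-/

set_option autoImplicit false
set_option linter.style.haveILetI false
set_option linter.unusedSectionVars false

open scoped commutatorElement

namespace Cfsg.Agent.H34.Push

open Subgroup

universe u

variable {G : Type u} [Group G] [Finite G] {p : ℕ} [Fact p.Prime] {E E' : Subgroup G}

/-- A surjection onto a group of the order of `E / C` that is trivial on `C` has kernel `C`. -/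
theorem ker_of_card {R : Type*} [Group R] [Finite R] {ρ : ↥E →* R} (hs : Function.Surjective ρ)
    (hle : ∀ e : ↥E, (e : G) ∈ cee p G → ρ e = 1) (hcard : (cee p G).relIndex E = Nat.card R) (e : ↥E) :
    ρ e = 1 ↔ (e : G) ∈ cee p G := by
  have h1 : (cee p G).subgroupOf E ≤ ρ.ker := fun x hx => MonoidHom.mem_ker.2 (hle x hx)
  have h2 : ((cee p G).subgroupOf E).index = ρ.ker.index := by
    rw [Subgroup.index_ker, MonoidHom.range_eq_top.2 hs, card_top]
    exact hcard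
  have h3 : (cee p G).subgroupOf E = ρ.ker := by
    refine eq_of_le_of_card_ge h1 (le_of_eq ?_)
    have e1 := ((cee p G).subgroupOf E).card_mul_index
    have e2 := ρ.ker.card_mul_index
    rw [h2, ← e2] at e1
    exact (Nat.eq_of_mul_eq_mul_right (Nat.pos_of_ne_zero ρ.ker.index_ne_zero_of_finite) e1).symm
  rw [← MonoidHom.mem_ker, ← h3, mem_subgroupOf]

/-- Elements of `C_G(V)` fix `[V, E]`. -/
theorem conj_eq_of_mem_cee {c u : G} (hc : c ∈ cee p G) (hu : u ∈ vee p G) : c * u * c⁻¹ = u := by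
  rw [← mem_centralizer_iff.1 hc u hu, mul_inv_cancel_right]

theorem comm_le_vee (E : Subgroup G) : ⁅vee p G, E⁆ ≤ vee p G := by
  haveI := vee_normal (G := G) (p := p)
  exact commutator_le_left _ _

theorem LinRep.exists_of_acts {F : Type} [Field F] [Fintype F]
    (hq : ∃ _ : ((cee p G).subgroupOf E).Normal,
      Nonempty (↥E ⧸ (cee p G).subgroupOf E ≃* Matrix.SpecialLinearGroup (Fin 2) F))
    (h : Cfsg.ActsAsSL2OnSection F ⊤ E ⁅vee p G, E⁆ (⁅vee p G, E⁆ ⊓ centralizer (E : Set G))) :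
    ∃ ρ ψ, LinRep p E (F := F) ρ ψ := by
  obtain ⟨-, -, ρ, ψ, hρ, hψ, hk, hact⟩ := h
  have act : ∀ (e : ↥E) (u w : ↥⁅vee p G, E⁆), (w : G) = (e : G) * (u : G) * (e : G)⁻¹ →
      Multiplicative.toAdd (ψ w) =
        ((ρ e : Matrix.SpecialLinearGroup (Fin 2) F) : Matrix (Fin 2) (Fin 2) F).mulVec
          (Multiplicative.toAdd (ψ u)) := fun e u w hw => by
    obtain ⟨w', hw', e'⟩ := hact e u
    rwa [show w = w' from Subtype.ext (hw.trans hw'.symm)]
  refine ⟨ρ, ψ, MonoidHom.range_eq_top.1 hρ, ker_of_card (MonoidHom.range_eq_top.1 hρ) (fun e he => ?_) ?_, hψ,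
    fun u => (hk u).trans ⟨fun h => h.2, fun h => ⟨u.2, h⟩⟩, act⟩
  · refine Subtype.ext (Matrix.ext_of_mulVec_single fun j => ?_)
    obtain ⟨u, hu⟩ := hψ (Multiplicative.ofAdd (Pi.single j 1))
    have e1 := act e u u (conj_eq_of_mem_cee he (comm_le_vee E u.2)).symm
    rw [hu, toAdd_ofAdd] at e1
    rw [← e1, Matrix.SpecialLinearGroup.coe_one, Matrix.one_mulVec]
  · obtain ⟨hn, ⟨e⟩⟩ := hq
    exact Nat.card_congr e.toEquiv

/-- The symmetric section without the condition on transpositions. -/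
theorem exists_perm_of_acts {m : ℕ} (hm : 3 ≤ m)
    (hq : ∃ _ : ((cee p G).subgroupOf E).Normal,
      Nonempty (↥E ⧸ (cee p G).subgroupOf E ≃* Equiv.Perm (Fin m)))
    (h : Cfsg.ActsAsOddPermModuleOnSection m ⊤ E ⁅vee p G, E⁆ (⁅vee p G, E⁆ ⊓ centralizer (E : Set G))) :
    ∃ (ρ : ↥E →* Equiv.Perm (Fin m)) (ψ : ↥⁅vee p G, E⁆ →* Multiplicative (Fin m → ZMod 2)),
      Function.Surjective ρ ∧ (∀ e : ↥E, ρ e = 1 ↔ (e : G) ∈ cee p G) ∧
      (∀ u, ∑ i, Multiplicative.toAdd (ψ u) i = 0) ∧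
      (∀ v : Fin m → ZMod 2, ∑ i, v i = 0 → ∃ u, Multiplicative.toAdd (ψ u) = v) ∧
      (∀ u : ↥⁅vee p G, E⁆, ψ u = 1 ↔ (u : G) ∈ centralizer (E : Set G)) ∧
      ∀ (e : ↥E) (u w : ↥⁅vee p G, E⁆), (w : G) = (e : G) * (u : G) * (e : G)⁻¹ →
        ∀ i, Multiplicative.toAdd (ψ w) i = Multiplicative.toAdd (ψ u) ((ρ e)⁻¹ i) := by
  obtain ⟨-, -, ρ, ψ, hρ, hsum, hψ, hk, hact⟩ := h
  have act : ∀ (e : ↥E) (u w : ↥⁅vee p G, E⁆), (w : G) = (e : G) * (u : G) * (e : G)⁻¹ →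
      ∀ i, Multiplicative.toAdd (ψ w) i = Multiplicative.toAdd (ψ u) ((ρ e)⁻¹ i) := fun e u w hw => by
    obtain ⟨w', hw', e'⟩ := hact e u
    rwa [show w = w' from Subtype.ext (hw.trans hw'.symm)]
  refine ⟨ρ, ψ, MonoidHom.range_eq_top.1 hρ, ker_of_card (MonoidHom.range_eq_top.1 hρ) (fun e he => ?_) ?_,
    hsum, hψ, fun u => (hk u).trans ⟨fun h => h.2, fun h => ⟨u.2, h⟩⟩, act⟩
  · refine Star.evAct_faithful hm fun v => Subtype.ext (funext fun i => ?_)
    obtain ⟨u, hu⟩ := hψ v.1 v.2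
    show v.1 ((ρ e)⁻¹ i) = v.1 i
    rw [← hu, ← act e u u (conj_eq_of_mem_cee he (comm_le_vee E u.2)).symm]
  · obtain ⟨hn, ⟨e⟩⟩ := hq
    exact Nat.card_congr e.toEquiv

/-- Conjugation between conjugate subgroups and their commutators with a normal subgroup. -/
theorem conj_pair (g : G) (h : E.map (MulAut.conj g).toMonoidHom = E') :
    (∀ x, x ∈ E' ↔ g⁻¹ * x * g ∈ E) ∧ (∀ x, x ∈ ⁅vee p G, E'⁆ ↔ g⁻¹ * x * g ∈ ⁅vee p G, E⁆) ∧
      ∀ x, x ∈ centralizer (E' : Set G) ↔ g⁻¹ * x * g ∈ centralizer (E : Set G) := by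
  haveI := vee_normal (G := G) (p := p)
  have hv : (vee p G).map (MulAut.conj g).toMonoidHom = vee p G := by
    refine eq_of_le_of_card_ge ?_ (card_map_of_injective (MulAut.conj g).injective).ge
    rintro _ ⟨v, hv, rfl⟩
    exact Normal.conj_mem inferInstance v hv g
  refine ⟨fun x => ?_, fun x => ?_, fun x => ?_⟩
  · rw [← h, mem_map_equiv]; simp [MulAut.conj_symm_apply]
  · conv_lhs => rw [← h, ← hv, ← Subgroup.map_commutator, mem_map_equiv]
    simp [MulAut.conj_symm_apply]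
  · conv_lhs => rw [← h, ← H34.map_centralizer (MulAut.conj g) E, mem_map_equiv]
    simp [MulAut.conj_symm_apply]

/-- Linear representations transported by conjugation. -/
theorem LinRep.conj {F : Type} [Field F] {ρ : ↥E →* Matrix.SpecialLinearGroup (Fin 2) F}
    {ψ : ↥⁅vee p G, E⁆ →* Multiplicative (Fin 2 → F)} (hr : LinRep p E ρ ψ) (g : G)
    (h : E.map (MulAut.conj g).toMonoidHom = E') :
    ∃ ρ' ψ', LinRep p E' (F := F) ρ' ψ' := by
  haveI := cee_normal (G := G) (p := p)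
  obtain ⟨hE, hU, hC⟩ := conj_pair (p := p) g h
  let τ : ↥E' →* ↥E := MonoidHom.mk' (fun x => ⟨g⁻¹ * x * g, (hE x).1 x.2⟩)
    (fun a b => Subtype.ext (by simp [mul_assoc]))
  let σ : ↥⁅vee p G, E'⁆ →* ↥⁅vee p G, E⁆ := MonoidHom.mk' (fun x => ⟨g⁻¹ * x * g, (hU x).1 x.2⟩)
    (fun a b => Subtype.ext (by simp [mul_assoc]))
  have hτ : Function.Surjective τ := fun e =>
    ⟨⟨g * e * g⁻¹, (hE _).2 (by simp [mul_assoc])⟩, Subtype.ext (by simp [τ, mul_assoc])⟩
  have hσ : Function.Surjective σ := fun u =>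
    ⟨⟨g * u * g⁻¹, (hU _).2 (by simp [mul_assoc])⟩, Subtype.ext (by simp [σ, mul_assoc])⟩
  refine ⟨ρ.comp τ, ψ.comp σ, hr.surj.comp hτ, fun e => (hr.ker _).trans ?_, hr.onto.comp hσ,
    fun u => (hr.kerψ _).trans (hC u).symm, fun e u w hw => hr.act (τ e) (σ u) (σ w) ?_⟩
  · exact ⟨fun h1 => by simpa [τ, mul_assoc] using Normal.conj_mem inferInstance _ h1 g,
      fun h1 => by simpa [τ, mul_assoc] using Normal.conj_mem inferInstance _ h1 g⁻¹⟩
  · simp [σ, τ, hw, mul_assoc]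

/-- Symmetric representations transported by conjugation. -/
theorem SymRep.conj {m : ℕ} {ρ : ↥E →* Equiv.Perm (Fin m)}
    {ψ : ↥⁅vee p G, E⁆ →* Multiplicative (Fin m → ZMod 2)} (hr : SymRep p E ρ ψ) (g : G)
    (h : E.map (MulAut.conj g).toMonoidHom = E') :
    ∃ ρ' ψ', SymRep p E' (m := m) ρ' ψ' := by
  haveI := cee_normal (G := G) (p := p)
  haveI := vee_normal (G := G) (p := p)
  obtain ⟨hE, hU, hC⟩ := conj_pair (p := p) g h
  let τ : ↥E' →* ↥E := MonoidHom.mk' (fun x => ⟨g⁻¹ * x * g, (hE x).1 x.2⟩)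
    (fun a b => Subtype.ext (by simp [mul_assoc]))
  let σ : ↥⁅vee p G, E'⁆ →* ↥⁅vee p G, E⁆ := MonoidHom.mk' (fun x => ⟨g⁻¹ * x * g, (hU x).1 x.2⟩)
    (fun a b => Subtype.ext (by simp [mul_assoc]))
  have hτ : Function.Surjective τ := fun e =>
    ⟨⟨g * e * g⁻¹, (hE _).2 (by simp [mul_assoc])⟩, Subtype.ext (by simp [τ, mul_assoc])⟩
  have hσ : Function.Surjective σ := fun u =>
    ⟨⟨g * u * g⁻¹, (hU _).2 (by simp [mul_assoc])⟩, Subtype.ext (by simp [σ, mul_assoc])⟩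
  refine ⟨ρ.comp τ, ψ.comp σ, hr.surj.comp hτ, fun e => (hr.ker _).trans ?_, fun u => hr.even _,
    fun v hv => ?_, fun u => (hr.kerψ _).trans (hC u).symm, fun e u w hw => hr.act (τ e) (σ u) (σ w) ?_,
    fun e a b hab he => ?_⟩
  · exact ⟨fun h1 => by simpa [τ, mul_assoc] using Normal.conj_mem inferInstance _ h1 g,
      fun h1 => by simpa [τ, mul_assoc] using Normal.conj_mem inferInstance _ h1 g⁻¹⟩
  · obtain ⟨u, hu⟩ := hr.onto v hv
    obtain ⟨u', rfl⟩ := hσ u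
    exact ⟨u', hu⟩
  · simp [σ, τ, hw, mul_assoc]
  · have h1 := hr.transv (τ e) a b hab he
    have hmap : ∀ X : Subgroup G, (X ⊓ centralizer ({(e : G)} : Set G)).map (MulAut.conj g⁻¹).toMonoidHom =
        X.map (MulAut.conj g⁻¹).toMonoidHom ⊓ centralizer ({g⁻¹ * e * g} : Set G) := by
      intro X
      rw [Subgroup.map_inf _ _ _ (MulAut.conj g⁻¹).injective]
      congr 1
      ext x
      rw [mem_map_equiv, mem_centralizer_singleton_iff, mem_centralizer_singleton_iff]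
      simp only [MulAut.conj_symm_apply, inv_inv]
      constructor <;> intro hx
      · calc x * (g⁻¹ * e * g) = g⁻¹ * ((g * x * g⁻¹) * e) * g := by group
          _ = _ := by rw [hx]; group
      · calc g * x * g⁻¹ * e = g * (x * (g⁻¹ * e * g)) * g⁻¹ := by group
          _ = _ := by rw [hx]; group
    have hv : (vee p G).map (MulAut.conj g⁻¹).toMonoidHom = vee p G := by
      refine eq_of_le_of_card_ge ?_ (card_map_of_injective (MulAut.conj g⁻¹).injective).ge
      rintro _ ⟨v, hv, rfl⟩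
      exact Normal.conj_mem inferInstance v hv g⁻¹
    have h2 := relIndex_map_map_of_injective (f := (MulAut.conj g⁻¹).toMonoidHom)
      (vee p G ⊓ centralizer ({(e : G)} : Set G)) (vee p G) (MulAut.conj g⁻¹).injective
    rw [hmap, hv] at h2
    rw [← h2]
    exact h1

end Cfsg.Agent.H34.Push
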